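import Groth.Agent.Lib.ML.Ops

/-!
# Faithfully flat descent of the Mittag-Leffler property
-/

universe u

open TensorProduct

namespace GrothLib.ML

variable {R : Type u} [CommRing R]
variable {P M : Type u} [AddCommGroup P] [Module R P] [AddCommGroup M] [Module R M]

theorem exists_factor_killL {X : Type u} [AddCommGroup X] [Module R X] [Module.FinitePresentation R P]
    (f : P →ₗ[R] M) (S : Finset (X ⊗[R] P)) (h : ∀ x ∈ S, f.lTensor X x = 0) :
    ∃ (P' : Type u) (_ : AddCommGroup P') (_ : Module R P') (_ : Module.FinitePresentation R P')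
      (f' : P →ₗ[R] P') (k : P' →ₗ[R] M), f = k ∘ₗ f' ∧ ∀ x ∈ S, f'.lTensor X x = 0 := by
  classical
  induction S using Finset.induction_on with
  | empty => exact ⟨P, inferInstance, inferInstance, inferInstance, LinearMap.id, f, rfl, by simp⟩
  | insert a S _ ih =>
    obtain ⟨P₁, _, _, _, f₁, k₁, e₁, h₁⟩ := ih fun x hx => h x (Finset.mem_insert_of_mem hx)
    have hc : ∀ {A B : Type u} [AddCommGroup A] [Module R A] [AddCommGroup B] [Module R B] (φ : A →ₗ[R] B)
        (z : X ⊗[R] A), φ.rTensor X (TensorProduct.comm R X A z) = TensorProduct.comm R X B (φ.lTensor X z) := by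
      intro A B _ _ _ _ φ z
      induction z with
      | zero => simp
      | add p q hp hq => simp only [map_add, hp, hq]
      | tmul p q => simp
    obtain ⟨P₂, _, _, hP₂, f₂, k₂, e₂, h₂⟩ := exists_factor_kill k₁ (TensorProduct.comm R X P₁ (f₁.lTensor X a))
      (by rw [hc, ← LinearMap.comp_apply, ← LinearMap.lTensor_comp, ← e₁, h a (Finset.mem_insert_self a S), map_zero])
    refine ⟨P₂, inferInstance, inferInstance, hP₂, f₂ ∘ₗ f₁, k₂, by rw [← LinearMap.comp_assoc, ← e₂, e₁], ?_⟩
    intro x hx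
    rw [LinearMap.lTensor_comp, LinearMap.comp_apply]
    rcases Finset.mem_insert.1 hx with rfl | hx
    · rw [hc] at h₂
      exact (TensorProduct.comm R X P₂).injective (h₂.trans (map_zero _).symm)
    · rw [h₁ x hx, map_zero]

variable (S : Type u) [CommRing S] [Algebra R S]

/-- `(S ⊗ P) ⊗ X = P ⊗ X`. -/
noncomputable def cancelEquiv (P X : Type u) [AddCommGroup P] [Module R P] [AddCommGroup X] [Module R X]
    [Module S X] [IsScalarTower R S X] : (S ⊗[R] P) ⊗[S] X ≃+ P ⊗[R] X :=
  ((TensorProduct.comm S _ X).toAddEquiv.trans (AlgebraTensorModule.cancelBaseChange R S S X P).toAddEquiv).trans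
    (TensorProduct.comm R X P).toAddEquiv

theorem cancelEquiv_natural {X : Type u} [AddCommGroup X] [Module R X] [Module S X] [IsScalarTower R S X]
    (φ : P →ₗ[R] M) (z : (S ⊗[R] P) ⊗[S] X) :
    cancelEquiv S M X ((φ.baseChange S).rTensor X z) = φ.rTensor X (cancelEquiv S P X z) := by
  induction z with
  | zero => simp
  | add a b ha hb => simp only [map_add, ha, hb]
  | tmul w x =>
    induction w with
    | zero => simp
    | add a b ha hb => simp only [add_tmul, map_add, ha, hb]
    | tmul s p => simp [cancelEquiv]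

variable {S}

theorem ml_descent [Module.FaithfullyFlat R S] (hS : CAlg.IsMittagLeffler S (S ⊗[R] M)) :
    CAlg.IsMittagLeffler R M := by
  classical
  refine isMittagLeffler_of_free fun n f => ?_
  haveI : Module.FinitePresentation S (S ⊗[R] (Fin n → R)) :=
    .of_equiv (TensorProduct.piScalarRight R S S (Fin n)).symm
  obtain ⟨Q', _, _, _, g', h', e', hker⟩ := exists_dominating hS (f.baseChange S)
  obtain ⟨m, π, hπ⟩ := Module.Finite.exists_fin' S Q'
  obtain ⟨rel, hrel⟩ := Module.FinitePresentation.fg_ker π hπ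
  choose T hT using fun j => TensorProduct.exists_finset (h' (π (Pi.single j 1)))
  let κ := Σ j, T j
  let k₀ : (κ → R) →ₗ[R] M := Fintype.linearCombination R fun p => p.2.1.2
  let f₀ : (Fin n → R) × (κ → R) →ₗ[R] M := f.coprod k₀
  let c : Fin m → S ⊗[R] ((Fin n → R) × (κ → R)) := fun j => ∑ p : T j, p.1.1 ⊗ₜ[R] (0, Pi.single ⟨j, p⟩ 1)
  have hc : ∀ j, f₀.baseChange S (c j) = h' (π (Pi.single j 1)) := fun j => by
    rw [hT j, ← Finset.sum_coe_sort (T j)]
    simp [c, f₀, k₀, Fintype.linearCombination_apply_single]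
  let C : (Fin m → S) →ₗ[S] S ⊗[R] ((Fin n → R) × (κ → R)) := Fintype.linearCombination S c
  have hC : f₀.baseChange S ∘ₗ C = h' ∘ₗ π := LinearMap.pi_ext' fun j => LinearMap.ext_ring (by
    simp [C, Fintype.linearCombination_apply_single, hc])
  choose v hv using fun i : Fin n => hπ (g' ((1 : S) ⊗ₜ[R] Pi.single i 1))
  let bad : Finset (S ⊗[R] ((Fin n → R) × (κ → R))) :=
    rel.image (fun r => C r) ∪ Finset.univ.image fun i => C (v i) - (1 : S) ⊗ₜ[R] (Pi.single i 1, 0)
  have hbad : ∀ x ∈ bad, f₀.lTensor S x = 0 := by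
    intro x hx
    show f₀.baseChange S x = 0
    rcases Finset.mem_union.1 hx with hx | hx
    · obtain ⟨r, hr, rfl⟩ := Finset.mem_image.1 hx
      have h1 : π r = 0 := LinearMap.mem_ker.1 (hrel ▸ Submodule.subset_span hr)
      rw [← LinearMap.comp_apply, hC, LinearMap.comp_apply, h1, map_zero]
    · obtain ⟨i, _, rfl⟩ := Finset.mem_image.1 hx
      rw [map_sub, ← LinearMap.comp_apply, hC, LinearMap.comp_apply, hv, ← LinearMap.comp_apply h' g', ← e']
      simp [f₀]
  obtain ⟨G, _, _, hG, q, k, ek, hq⟩ := exists_factor_killL f₀ bad hbad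
  let g : (Fin n → R) →ₗ[R] G := q ∘ₗ LinearMap.inl R _ _
  have hfg : f = k ∘ₗ g := by
    rw [← LinearMap.comp_assoc, ← ek, LinearMap.coprod_inl]
  have hle : LinearMap.ker π ≤ LinearMap.ker (q.baseChange S ∘ₗ C) := by
    rw [← hrel, Submodule.span_le]
    exact fun r hr => hq _ (Finset.mem_union_left _ (Finset.mem_image_of_mem _ hr))
  let h'' : Q' →ₗ[S] S ⊗[R] G :=
    (LinearMap.ker π).liftQ _ hle ∘ₗ (π.quotKerEquivOfSurjective hπ).symm.toLinearMap
  have h''π : ∀ y, h'' (π y) = q.baseChange S (C y) := fun y => by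
    simp only [h'', LinearMap.comp_apply, LinearEquiv.coe_coe]
    rw [← LinearMap.quotKerEquivOfSurjective_apply_mk π hπ y, LinearEquiv.symm_apply_apply]
    rfl
  have hg : g.baseChange S = h'' ∘ₗ g' := by
    refine TensorProduct.AlgebraTensorModule.ext fun s x => ?_
    rw [show s ⊗ₜ[R] x = s • ((1 : S) ⊗ₜ[R] x) by simp [TensorProduct.smul_tmul'], map_smul, map_smul]
    congr 1
    revert x
    refine fun x => LinearMap.congr_fun (f := (g.baseChange S).restrictScalars R ∘ₗ TensorProduct.mk R S _ 1)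
      (g := (h'' ∘ₗ g').restrictScalars R ∘ₗ TensorProduct.mk R S _ 1)
      (LinearMap.pi_ext' fun i => LinearMap.ext_ring ?_) x
    have h1 := hq _ (Finset.mem_union_right _ (Finset.mem_image_of_mem _ (Finset.mem_univ i)))
    rw [map_sub, sub_eq_zero] at h1
    show g.baseChange S ((1 : S) ⊗ₜ[R] Pi.single i 1) = h'' (g' ((1 : S) ⊗ₜ[R] Pi.single i 1))
    rw [← hv i, h''π]
    exact h1.symm
  refine ⟨G, inferInstance, inferInstance, hG, g, fun T' _ _ => le_antisymm (fun x hx => ?_) (hfg ▸ ker_comp_ge g k)⟩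
  let j : T' →ₗ[R] S ⊗[R] T' := TensorProduct.mk R S T' 1
  let x' := j.lTensor _ x
  have h1 : f.rTensor (S ⊗[R] T') x' = 0 := by
    rw [← LinearMap.comp_apply, LinearMap.rTensor_comp_lTensor, ← LinearMap.lTensor_comp_rTensor,
      LinearMap.comp_apply, LinearMap.mem_ker.1 hx, map_zero]
  obtain ⟨z, hz⟩ := (cancelEquiv S (Fin n → R) (S ⊗[R] T')).surjective x'
  have h2 : (f.baseChange S).rTensor (S ⊗[R] T') z = 0 := (cancelEquiv S M _).injective (by
    rw [cancelEquiv_natural, hz, h1, map_zero])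
  have h3 : (g.baseChange S).rTensor (S ⊗[R] T') z = 0 := by
    rw [hg]
    exact ker_comp_ge g' h'' ((hker _).le h2)
  have h4 : g.rTensor (S ⊗[R] T') x' = 0 := by
    rw [← hz, ← cancelEquiv_natural, h3, map_zero]
  have h5 : ∀ y : G ⊗[R] T', j.lTensor G y = (TensorProduct.leftComm R G S T').symm ((1 : S) ⊗ₜ[R] y) := fun y => by
    induction y with
    | zero => simp
    | add a b ha hb => simp only [map_add, tmul_add, ha, hb]
    | tmul a b => simp [j]
  apply Module.FaithfullyFlat.tensorProduct_mk_injective (A := R) (B := S) (G ⊗[R] T')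
  rw [map_zero]
  apply (TensorProduct.leftComm R G S T').symm.injective
  rw [map_zero]
  show (TensorProduct.leftComm R G S T').symm ((1 : S) ⊗ₜ[R] g.rTensor T' x) = 0
  rw [← h5, ← LinearMap.comp_apply, LinearMap.lTensor_comp_rTensor, ← LinearMap.rTensor_comp_lTensor,
    LinearMap.comp_apply, h4]

end GrothLib.ML
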