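import Groth.Agent.Lib.ML.Ops

/-!
# Countably generated Mittag-Leffler modules
-/

universe u

open TensorProduct

namespace GrothLib.ML

variable {R : Type u} [CommRing R] {M : Type u} [AddCommGroup M] [Module R M]

/-- A finitely presented module mapping to `M`. -/
structure Stage (R : Type u) [CommRing R] (M : Type u) [AddCommGroup M] [Module R M] where
  /-- the module -/
  P : Type u
  [ab : AddCommGroup P]
  [mod : Module R P]
  [fp : Module.FinitePresentation R P]
  /-- the map -/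
  h : P →ₗ[R] M

attribute [instance] Stage.ab Stage.mod Stage.fp

theorem exists_step (hM : CAlg.IsMittagLeffler R M) (C : Stage R M → Prop)
    (hC : ∀ (Q : Type u) [AddCommGroup Q] [Module R Q] [Module.FinitePresentation R Q] (h : Q →ₗ[R] M),
      ∃ (t : Stage R M) (a : Q →ₗ[R] t.P), C t ∧ t.h ∘ₗ a = h)
    (s : Stage R M) (x : M) :
    ∃ (t : Stage R M) (g : s.P →ₗ[R] t.P), C t ∧ t.h ∘ₗ g = s.h ∧ x ∈ LinearMap.range t.h ∧
      ∀ (T : Type u) [AddCommGroup T] [Module R T], LinearMap.ker (s.h.rTensor T) = LinearMap.ker (g.rTensor T) := by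
  let f' : s.P × R →ₗ[R] M := s.h.coprod (LinearMap.toSpanSingleton R M x)
  obtain ⟨Q, _, _, _, g, h, e, hker⟩ := exists_dominating hM f'
  obtain ⟨t, a, ht, ha⟩ := hC Q h
  refine ⟨t, a ∘ₗ g ∘ₗ LinearMap.inl R s.P R, ht, ?_, ⟨a (g (0, 1)), ?_⟩, fun T _ _ => le_antisymm ?_ ?_⟩
  · rw [← LinearMap.comp_assoc, ha, ← LinearMap.comp_assoc, ← e, LinearMap.coprod_inl]
  · rw [← LinearMap.comp_apply, ha, ← LinearMap.comp_apply, ← e]
    simp [f']
  · intro z hz
    rw [LinearMap.mem_ker] at hz ⊢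
    rw [LinearMap.rTensor_comp, LinearMap.rTensor_comp, LinearMap.comp_apply, LinearMap.comp_apply]
    have h1 : (LinearMap.inl R s.P R).rTensor T z ∈ LinearMap.ker (f'.rTensor T) := by
      rw [LinearMap.mem_ker, ← LinearMap.comp_apply, ← LinearMap.rTensor_comp, LinearMap.coprod_inl, hz]
    rw [LinearMap.mem_ker.1 ((hker T).le h1), map_zero]
  · have : s.h = t.h ∘ₗ (a ∘ₗ g ∘ₗ LinearMap.inl R s.P R) := by
      rw [← LinearMap.comp_assoc, ha, ← LinearMap.comp_assoc, ← e, LinearMap.coprod_inl]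
    conv_rhs => rw [this]
    exact ker_comp_ge _ _

/-- The tower of finitely presented modules below a countably generated Mittag-Leffler module, with
the maps to its stages. -/
theorem exists_tower (hM : CAlg.IsMittagLeffler R M) (hc : CAlg.IsCountablyGenerated R M) (C : Stage R M → Prop)
    (hC : ∀ (Q : Type u) [AddCommGroup Q] [Module R Q] [Module.FinitePresentation R Q] (h : Q →ₗ[R] M),
      ∃ (t : Stage R M) (a : Q →ₗ[R] t.P), C t ∧ t.h ∘ₗ a = h)
    (s₀ : Stage R M) :
    ∃ (s : ℕ → Stage R M), s 0 = s₀ ∧ (∀ n, C (s (n + 1))) ∧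
      (∀ n, LinearMap.range (s n).h ≤ LinearMap.range (s (n + 1)).h) ∧
      (∀ x, ∃ n, x ∈ LinearMap.range (s n).h) ∧
      ∀ a, ∃ b : M →ₗ[R] (s (a + 1)).P,
        ∀ x ∈ LinearMap.range (s a).h, (s (a + 1)).h (b x) = x := by
  classical
  obtain ⟨S, hS, hspan⟩ := hc
  obtain ⟨m, hm⟩ := (hS.insert 0).exists_eq_range (Set.insert_nonempty _ _)
  choose nxt g hCn hg hx hker using exists_step hM C hC
  let s : ℕ → Stage R M := fun n => Nat.rec (motive := fun _ => Stage R M) s₀ (fun k t => nxt t (m k)) n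
  let gs : ∀ n, (s n).P →ₗ[R] (s (n + 1)).P := fun n => g (s n) (m n)
  have hgs : ∀ n, (s (n + 1)).h ∘ₗ gs n = (s n).h := fun n => hg (s n) (m n)
  have hkers : ∀ n (T : Type u) [AddCommGroup T] [Module R T],
      LinearMap.ker ((s n).h.rTensor T) = LinearMap.ker ((gs n).rTensor T) := fun n => hker (s n) (m n)
  have hstep : ∀ n, LinearMap.range (s n).h ≤ LinearMap.range (s (n + 1)).h := fun n => by
    rw [← hgs n]
    exact LinearMap.range_comp_le_range _ _
  have hmono : Monotone fun n => LinearMap.range (s n).h := monotone_nat_of_le_succ hstep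
  have htop : (⨆ n, LinearMap.range (s n).h) = ⊤ := by
    rw [eq_top_iff, ← hspan, Submodule.span_le]
    intro x hxS
    obtain ⟨k, rfl⟩ : x ∈ Set.range m := hm ▸ Set.mem_insert_of_mem _ hxS
    exact Submodule.mem_iSup_of_mem (k + 1) (hx (s k) (m k))
  have hex : ∀ x, ∃ n, x ∈ LinearMap.range (s n).h := fun x =>
    (Submodule.mem_iSup_of_directed _ hmono.directed_le).1 (htop ▸ Submodule.mem_top)
  have hr : ∀ n, ∃ r : (s (n + 2)).P →ₗ[R] (s (n + 1)).P, gs n = r ∘ₗ (gs (n + 1) ∘ₗ gs n) := fun n => by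
    haveI : Module.FinitePresentation R ((s (n + 2)).P ⧸ LinearMap.range (gs (n + 1) ∘ₗ gs n)) :=
      Module.finitePresentation_of_surjective _ (Submodule.mkQ_surjective _)
        (by rw [Submodule.ker_mkQ, LinearMap.range_eq_map]; exact Module.Finite.fg_top.map _)
    refine factor_of_dom _ _ fun T _ _ => le_trans ?_ (hkers n T).le
    have : (s n).h = (s (n + 2)).h ∘ₗ (gs (n + 1) ∘ₗ gs n) := by
      rw [← LinearMap.comp_assoc]
      exact ((congrArg (fun z => z ∘ₗ gs n) (hgs (n + 1))).trans (hgs n)).symm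
    rw [this]
    exact ker_comp_ge _ _
  choose r hr using hr
  refine ⟨s, rfl, fun n => hCn (s n) (m n), hstep, hex, fun a => ?_⟩
  let θ : ∀ d, (s (a + d + 1)).P →ₗ[R] (s (a + 1)).P := fun d =>
    Nat.rec (motive := fun d => (s (a + d + 1)).P →ₗ[R] (s (a + 1)).P) LinearMap.id (fun d t => t ∘ₗ r (a + d)) d
  let φ : ∀ d, (s (a + d)).P →ₗ[R] (s (a + 1)).P := fun d => θ d ∘ₗ gs (a + d)
  have hφ : ∀ d, φ (d + 1) ∘ₗ gs (a + d) = φ d := fun d => by
    show (θ d ∘ₗ r (a + d)) ∘ₗ gs (a + d + 1) ∘ₗ gs (a + d) = θ d ∘ₗ gs (a + d)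
    rw [LinearMap.comp_assoc, ← hr]
  have hzero : ∀ d p, (s (a + d)).h p = 0 → φ d p = 0 := fun d p hp => by
    have h1 : (p ⊗ₜ[R] (1 : R)) ∈ LinearMap.ker ((gs (a + d)).rTensor R) := by
      rw [← hkers, LinearMap.mem_ker, LinearMap.rTensor_tmul, hp, zero_tmul]
    have h2 : gs (a + d) p = 0 := by
      simpa using congrArg (TensorProduct.rid R _) (LinearMap.mem_ker.1 h1)
    show θ d (gs (a + d) p) = 0
    rw [h2, map_zero]
  have hup : ∀ d D, d ≤ D → ∀ p, ∃ q, (s (a + D)).h q = (s (a + d)).h p ∧ φ D q = φ d p := by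
    intro d D hdD
    induction D, hdD using Nat.le_induction with
    | base => exact fun p => ⟨p, rfl, rfl⟩
    | succ D _ ih =>
      intro p
      obtain ⟨q, h1, h2⟩ := ih p
      exact ⟨gs (a + D) q, (LinearMap.congr_fun (hgs (a + D)) q).trans h1,
        (LinearMap.congr_fun (hφ D) q).trans h2⟩
  have hwd : ∀ d e p q, (s (a + d)).h p = (s (a + e)).h q → φ d p = φ e q := by
    intro d e p q h
    obtain ⟨p', hp, hp'⟩ := hup d (max d e) (le_max_left _ _) p
    obtain ⟨q', hq, hq'⟩ := hup e (max d e) (le_max_right _ _) q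
    rw [← hp', ← hq', ← sub_eq_zero, ← map_sub]
    exact hzero _ _ (by rw [map_sub, hp, hq, h, sub_self])
  have hex' : ∀ x, ∃ d p, (s (a + d)).h p = x := fun x => by
    obtain ⟨n, hn⟩ := hex x
    obtain ⟨p, hp⟩ := hmono (Nat.le_add_left n a) hn
    exact ⟨n, p, hp⟩
  choose D P hP using hex'
  refine ⟨{ toFun := fun x => φ (D x) (P x), map_add' := fun x y => ?_, map_smul' := fun c x => ?_ }, ?_⟩
  · obtain ⟨p', hp, hp'⟩ := hup (D x) (max (D x) (D y)) (le_max_left _ _) (P x)
    obtain ⟨q', hq, hq'⟩ := hup (D y) (max (D x) (D y)) (le_max_right _ _) (P y)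
    rw [← hp', ← hq', ← map_add]
    exact hwd _ _ _ _ (by rw [map_add, hp, hq, hP, hP, hP])
  · rw [RingHom.id_apply, ← map_smul]
    exact hwd _ _ _ _ (by rw [map_smul, hP, hP])
  · rintro _ ⟨p, rfl⟩
    show (s (a + 1)).h (φ _ _) = _
    refine (congrArg (s (a + 1)).h (hwd _ 0 _ p (hP _))).trans ?_
    exact LinearMap.congr_fun (hgs a) p

theorem exists_endo_factor (hM : CAlg.IsMittagLeffler R M) (hc : CAlg.IsCountablyGenerated R M)
    {P : Type u} [AddCommGroup P] [Module R P] [Module.Finite R P] (f : P →ₗ[R] M) :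
    ∃ (Q : Type u) (_ : AddCommGroup Q) (_ : Module R Q) (_ : Module.FinitePresentation R Q)
      (b : M →ₗ[R] Q) (c : Q →ₗ[R] M), (c ∘ₗ b) ∘ₗ f = f := by
  obtain ⟨n, π, hπ⟩ := Module.Finite.exists_fin' R P
  obtain ⟨s, h0, _, _, _, hb⟩ := exists_tower hM hc (fun _ => True)
    (fun Q _ _ _ h => ⟨⟨Q, h⟩, LinearMap.id, trivial, rfl⟩) ⟨Fin n → R, f ∘ₗ π⟩
  obtain ⟨b, hb⟩ := hb 0
  refine ⟨(s 1).P, inferInstance, inferInstance, inferInstance, b, (s 1).h, LinearMap.ext fun p => hb _ ?_⟩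
  obtain ⟨v, rfl⟩ := hπ p
  rw [h0]
  exact ⟨v, rfl⟩

theorem projective_of_countable [Module.Flat R M] (hM : CAlg.IsMittagLeffler R M)
    (hc : CAlg.IsCountablyGenerated R M) : Module.Projective R M := by
  classical
  obtain ⟨s, h0, hfree, hmono', hex, hb⟩ := exists_tower hM hc (fun t => Module.Projective R t.P)
    (fun Q _ _ _ h => by
      obtain ⟨k, a, y, e⟩ := Module.Flat.exists_factorization_of_finitePresentation h
      refine ⟨⟨Fin k → R, y ∘ₗ (Finsupp.linearEquivFunOnFinite R R (Fin k)).symm.toLinearMap⟩,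
        (Finsupp.linearEquivFunOnFinite R R (Fin k)).toLinearMap ∘ₗ a,
        (inferInstance : Module.Projective R (Fin k → R)), ?_⟩
      rw [e]
      ext q
      simp)
    ⟨PUnit.{u + 1}, 0⟩
  choose b hb using hb
  let u : ℕ → M →ₗ[R] M := fun j => (s (j + 1)).h ∘ₗ b j
  let w : ℕ → M →ₗ[R] M := fun j => Nat.rec (motive := fun _ => M →ₗ[R] M) LinearMap.id
    (fun j t => (LinearMap.id - u j) ∘ₗ t) j
  have hw : ∀ j x, w (j + 1) x = w j x - u j (w j x) := fun j x => rfl
  have hmono : Monotone fun n => LinearMap.range (s n).h := monotone_nat_of_le_succ hmono'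
  have hwr : ∀ j x, x - w j x ∈ LinearMap.range (s j).h := by
    intro j x
    induction j with
    | zero => exact ⟨0, by simp [w]⟩
    | succ j ih =>
      rw [hw, show x - (w j x - u j (w j x)) = (x - w j x) + u j (w j x) by abel]
      exact Submodule.add_mem _ (hmono' j ih) ⟨b j (w j x), rfl⟩
  have hwz : ∀ N x, x ∈ LinearMap.range (s N).h → ∀ j, N < j → w j x = 0 := by
    intro N x hx j hj
    induction j, hj using Nat.le_induction with
    | base =>
      have h1 : w N x ∈ LinearMap.range (s N).h := by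
        simpa using Submodule.sub_mem _ hx (hwr N x)
      rw [hw, show u N (w N x) = w N x from hb N _ h1, sub_self]
    | succ j _ ih => rw [hw, ih, map_zero, sub_self]
  refine Module.Projective.of_lifting_property'' fun π hπ => ?_
  have hfree' : ∀ j, ∃ L : (s (j + 1)).P →ₗ[R] (M →₀ R), π ∘ₗ L = (s (j + 1)).h := fun j =>
    haveI := hfree j
    Module.projective_lifting_property π (s (j + 1)).h hπ
  choose L hL using hfree'
  let c : ℕ → M →ₗ[R] (M →₀ R) := fun j => L j ∘ₗ b j ∘ₗ w j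
  have hfin : ∀ x, (Function.support fun j => c j x).Finite := fun x => by
    obtain ⟨N, hN⟩ := hex x
    refine (Set.finite_Iic N).subset fun j hj => ?_
    by_contra h
    exact hj (by simp [c, hwz N x hN j (not_le.1 h)])
  refine ⟨{ toFun := fun x => ∑ᶠ j, c j x, map_add' := fun x y => ?_, map_smul' := fun r x => ?_ },
    LinearMap.ext fun x => ?_⟩
  · simp only [map_add]
    exact finsum_add_distrib (hfin x) (hfin y)
  · simp only [map_smul, RingHom.id_apply]
    exact (smul_finsum' r (hfin x)).symm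
  · show π (∑ᶠ j, c j x) = x
    obtain ⟨N, hN⟩ := hex x
    rw [finsum_eq_sum_of_support_subset _ (s := Finset.range (N + 1)) (fun j hj => by
      simp only [Finset.coe_range, Set.mem_Iio]
      by_contra h
      exact hj (by simp [c, hwz N x hN j (by omega)])), map_sum]
    have hterm : ∀ j, π (c j x) = w j x - w (j + 1) x := fun j => by
      rw [hw, sub_sub_cancel]
      exact LinearMap.congr_fun (hL j) _
    simp only [hterm, Finset.sum_range_sub']
    rw [hwz N x hN (N + 1) (Nat.lt_succ_self N), sub_zero]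
    rfl

end GrothLib.ML
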