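import Groth.Agent.Lib.ML.Dominate

/-!
# Operations on Mittag-Leffler modules
-/

universe u

open TensorProduct

namespace GrothLib.ML

variable {R : Type u} [CommRing R]
variable {M N : Type u} [AddCommGroup M] [Module R M] [AddCommGroup N] [Module R N]

theorem ml_of_finitePresentation (M : Type u) [AddCommGroup M] [Module R M] [Module.FinitePresentation R M] :
    CAlg.IsMittagLeffler R M := fun _ Q _ _ => (cmp_bijective Q M).1

theorem ml_of_retract (s : M →ₗ[R] N) (r : N →ₗ[R] M) (h : r ∘ₗ s = LinearMap.id)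
    (hN : CAlg.IsMittagLeffler R N) : CAlg.IsMittagLeffler R M := fun ι Q _ _ => by
  rw [injective_iff_map_eq_zero]
  intro z hz
  have h1 : s.rTensor _ z = 0 := hN ι Q (by
    rw [map_zero]
    funext i
    exact (cmp_rTensor Q s z i).trans (by rw [show cmp Q M z i = 0 from congrFun hz i, map_zero]; rfl))
  have := congrArg (r.rTensor _) h1
  rwa [← LinearMap.comp_apply, ← LinearMap.rTensor_comp, h, LinearMap.rTensor_id, LinearMap.id_apply, map_zero] at this

theorem ml_directSum {ι : Type u} (M : ι → Type u) [∀ i, AddCommGroup (M i)] [∀ i, Module R (M i)]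
    (h : ∀ i, CAlg.IsMittagLeffler R (M i)) : CAlg.IsMittagLeffler R (DirectSum ι M) := fun κ Q _ _ => by
  classical
  rw [injective_iff_map_eq_zero]
  intro z hz
  let e := TensorProduct.directSumLeft R R M (∀ k, Q k)
  have key : ∀ (w : DirectSum ι M ⊗[R] (∀ k, Q k)) i, e w i = (DirectSum.component R ι M i).rTensor _ w := by
    intro w i
    induction w with
    | zero => simp
    | add a b ha hb => simp only [map_add, DirectSum.add_apply, ha, hb]
    | tmul v q =>
      induction v using DirectSum.induction_on with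
      | zero => simp
      | add a b ha hb => simp only [add_tmul, map_add, DirectSum.add_apply, ha, hb]
      | of j x =>
        rw [← DirectSum.lof_eq_of R, LinearMap.rTensor_tmul, TensorProduct.directSumLeft_tmul_lof]
        rcases eq_or_ne j i with rfl | hne
        · simp [DirectSum.lof_eq_of, ← DirectSum.apply_eq_component]
        · simp [DirectSum.lof_eq_of, ← DirectSum.apply_eq_component, DirectSum.of_eq_of_ne _ _ _ hne.symm]
  apply e.injective
  rw [map_zero]
  ext i
  rw [key, DirectSum.zero_apply]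
  refine h i κ Q ?_
  rw [map_zero]
  funext k
  exact (cmp_rTensor Q _ z k).trans (by rw [show cmp Q _ z k = 0 from congrFun hz k, map_zero]; rfl)

theorem ml_of_directSum {ι : Type u} (M : ι → Type u) [∀ i, AddCommGroup (M i)] [∀ i, Module R (M i)]
    (h : CAlg.IsMittagLeffler R (DirectSum ι M)) (i : ι) : CAlg.IsMittagLeffler R (M i) := by
  classical
  exact ml_of_retract (DirectSum.lof R ι M i) (DirectSum.component R ι M i)
    (LinearMap.ext fun x => by simp) h

theorem ml_quotient_fg (P : Submodule R M) (hP : P.FG) (hM : CAlg.IsMittagLeffler R M) :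
    CAlg.IsMittagLeffler R (M ⧸ P) := fun ι Q _ _ => by
  haveI : Module.Finite R P := .of_fg hP
  rw [injective_iff_map_eq_zero]
  intro z hz
  obtain ⟨w, rfl⟩ := LinearMap.rTensor_surjective _ (Submodule.mkQ_surjective P) z
  have h1 : ∀ i, ∃ t, P.subtype.rTensor (Q i) t = cmp Q M w i := fun i =>
    (rTensor_exact (Q i) (LinearMap.exact_subtype_mkQ P) (Submodule.mkQ_surjective P) _).1
      ((cmp_rTensor Q P.mkQ w i).symm.trans (congrFun hz i))
  choose t ht using h1
  obtain ⟨s, hs⟩ := cmp_surjective Q P t
  have h2 : P.subtype.rTensor _ s = w :=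
    hM ι Q (funext fun i => (cmp_rTensor Q P.subtype s i).trans (by rw [hs, ht]))
  rw [← h2, ← LinearMap.comp_apply, ← LinearMap.rTensor_comp,
    (LinearMap.exact_subtype_mkQ P).linearMap_comp_eq_zero, LinearMap.rTensor_zero, LinearMap.zero_apply]

theorem ml_of_projective (M : Type u) [AddCommGroup M] [Module R M] [Module.Projective R M] :
    CAlg.IsMittagLeffler R M := by
  classical
  obtain ⟨s, hs⟩ := Module.projective_def'.1 ‹Module.Projective R M›
  let e : (M →₀ R) ≃ₗ[R] DirectSum M (fun _ => R) := finsuppLEquivDirectSum R R M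
  refine ml_of_retract (e.toLinearMap ∘ₗ s) (Finsupp.linearCombination R id ∘ₗ e.symm.toLinearMap) ?_
    (ml_directSum (fun _ : M => R) fun _ => ml_of_finitePresentation R)
  rw [← LinearMap.comp_assoc, LinearMap.comp_assoc _ _ (Finsupp.linearCombination R id), e.symm_comp,
    LinearMap.comp_id, hs]

theorem ker_rTensor_congr {P Q₁ Q₂ : Type u} [AddCommGroup P] [Module R P] [AddCommGroup Q₁] [Module R Q₁]
    [AddCommGroup Q₂] [Module R Q₂] {f : P →ₗ[R] Q₁} {g : P →ₗ[R] Q₂}
    (h : ∀ (T : Type u) [AddCommGroup T] [Module R T], LinearMap.ker (f.rTensor T) = LinearMap.ker (g.rTensor T))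
    (X T : Type u) [AddCommGroup X] [Module R X] [AddCommGroup T] [Module R T] :
    LinearMap.ker ((TensorProduct.map f (LinearMap.id : X →ₗ[R] X)).rTensor T) =
      LinearMap.ker ((TensorProduct.map g (LinearMap.id : X →ₗ[R] X)).rTensor T) := by
  have key : ∀ {Q : Type u} [AddCommGroup Q] [Module R Q] (φ : P →ₗ[R] Q),
      φ.rTensor (X ⊗[R] T) ∘ₗ (TensorProduct.assoc R P X T).toLinearMap =
        (TensorProduct.assoc R Q X T).toLinearMap ∘ₗ (TensorProduct.map φ (LinearMap.id : X →ₗ[R] X)).rTensor T := by
    intro Q _ _ φ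
    ext p x t
    simp
  ext z
  have h1 := LinearMap.congr_fun (key f) z
  have h2 := LinearMap.congr_fun (key g) z
  simp only [LinearMap.comp_apply, LinearEquiv.coe_coe] at h1 h2
  have h3 := SetLike.ext_iff.1 (h (X ⊗[R] T)) (TensorProduct.assoc R P X T z)
  simp only [LinearMap.mem_ker, h1, h2, LinearEquiv.map_eq_zero_iff] at h3
  simpa only [LinearMap.mem_ker] using h3

theorem ker_lTensor_congr {P Q₁ Q₂ : Type u} [AddCommGroup P] [Module R P] [AddCommGroup Q₁] [Module R Q₁]
    [AddCommGroup Q₂] [Module R Q₂] {f : P →ₗ[R] Q₁} {g : P →ₗ[R] Q₂}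
    (h : ∀ (T : Type u) [AddCommGroup T] [Module R T], LinearMap.ker (f.rTensor T) = LinearMap.ker (g.rTensor T))
    (X T : Type u) [AddCommGroup X] [Module R X] [AddCommGroup T] [Module R T] :
    LinearMap.ker ((TensorProduct.map (LinearMap.id : X →ₗ[R] X) f).rTensor T) =
      LinearMap.ker ((TensorProduct.map (LinearMap.id : X →ₗ[R] X) g).rTensor T) := by
  have key : ∀ {Q : Type u} [AddCommGroup Q] [Module R Q] (φ : P →ₗ[R] Q),
      (TensorProduct.map φ (LinearMap.id : X →ₗ[R] X)).rTensor T ∘ₗ (LinearEquiv.rTensor T (TensorProduct.comm R X P)).toLinearMap =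
        (LinearEquiv.rTensor T (TensorProduct.comm R X Q)).toLinearMap ∘ₗ (TensorProduct.map (LinearMap.id : X →ₗ[R] X) φ).rTensor T := by
    intro Q _ _ φ
    ext x p t
    simp
  ext z
  have h1 := LinearMap.congr_fun (key f) z
  have h2 := LinearMap.congr_fun (key g) z
  simp only [LinearMap.comp_apply, LinearEquiv.coe_coe] at h1 h2
  have h3 := SetLike.ext_iff.1 (ker_rTensor_congr h X T) ((LinearEquiv.rTensor T (TensorProduct.comm R X P)) z)
  simp only [LinearMap.mem_ker, h1, h2, LinearEquiv.map_eq_zero_iff] at h3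
  simpa only [LinearMap.mem_ker] using h3

theorem ml_tensor (hM : CAlg.IsMittagLeffler R M) (hN : CAlg.IsMittagLeffler R N) :
    CAlg.IsMittagLeffler R (M ⊗[R] N) := by
  classical
  refine isMittagLeffler_of_free fun n f => ?_
  choose S hS using fun i => TensorProduct.exists_finset (f (Pi.single i 1))
  let κ := Σ i, S i
  let e := Fintype.equivFin κ
  let a : (Fin (Fintype.card κ) → R) →ₗ[R] M := Fintype.linearCombination R fun k => (e.symm k).2.1.1
  let b : (Fin (Fintype.card κ) → R) →ₗ[R] N := Fintype.linearCombination R fun k => (e.symm k).2.1.2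
  let s : (Fin n → R) →ₗ[R] (Fin (Fintype.card κ) → R) ⊗[R] (Fin (Fintype.card κ) → R) :=
    Fintype.linearCombination R fun i => ∑ p : S i, Pi.single (e ⟨i, p⟩) 1 ⊗ₜ[R] Pi.single (e ⟨i, p⟩) 1
  have hf : f = TensorProduct.map a b ∘ₗ s := LinearMap.pi_ext' fun i => LinearMap.ext_ring (by
    simp only [LinearMap.comp_apply, LinearMap.single_apply, s, Fintype.linearCombination_apply_single, one_smul,
      map_sum, TensorProduct.map_tmul, a, b]
    rw [hS i, ← Finset.sum_coe_sort]
    refine Finset.sum_congr rfl fun p _ => ?_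
    rw [e.symm_apply_apply])
  obtain ⟨Q₁, _, _, _, g₁, _, _, h₁⟩ := exists_dominating hM a
  obtain ⟨Q₂, _, _, _, g₂, _, _, h₂⟩ := exists_dominating hN b
  refine ⟨Q₁ ⊗[R] Q₂, inferInstance, inferInstance, ?_, TensorProduct.map g₁ g₂ ∘ₗ s, fun T _ _ => ?_⟩
  · obtain ⟨p, π, hπ⟩ := Module.Finite.exists_fin' R Q₁
    haveI : Module.Finite R (LinearMap.ker π) := .of_fg (Module.FinitePresentation.fg_ker π hπ)
    haveI : Module.FinitePresentation R ((Fin p → R) ⊗[R] Q₂) :=
      .of_equiv ((TensorProduct.comm R _ _).trans (TensorProduct.piScalarRight R R Q₂ (Fin p))).symm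
    refine Module.finitePresentation_of_surjective (π.rTensor Q₂) (LinearMap.rTensor_surjective _ hπ) ?_
    rw [(rTensor_exact (M := ↥(LinearMap.ker π)) Q₂ (LinearMap.exact_subtype_ker_map π) hπ).linearMap_ker_eq,
      LinearMap.range_eq_map]
    exact Module.Finite.fg_top.map _
  · have hmid : LinearMap.ker ((TensorProduct.map a b).rTensor T) =
        LinearMap.ker ((TensorProduct.map g₁ g₂).rTensor T) := by
      have e1 : TensorProduct.map a b = TensorProduct.map a (LinearMap.id : N →ₗ[R] N) ∘ₗ
          TensorProduct.map LinearMap.id b := by rw [← TensorProduct.map_comp]; simp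
      have e2 : TensorProduct.map g₁ g₂ = TensorProduct.map LinearMap.id g₂ ∘ₗ
          TensorProduct.map g₁ (LinearMap.id : (Fin (Fintype.card κ) → R) →ₗ[R] _) := by
        rw [← TensorProduct.map_comp]; simp
      have e3 : TensorProduct.map LinearMap.id b ∘ₗ
          TensorProduct.map g₁ (LinearMap.id : (Fin (Fintype.card κ) → R) →ₗ[R] _) =
          TensorProduct.map g₁ (LinearMap.id : N →ₗ[R] N) ∘ₗ TensorProduct.map LinearMap.id b := by
        rw [← TensorProduct.map_comp, ← TensorProduct.map_comp]; simp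
      rw [e1, LinearMap.rTensor_comp, LinearMap.ker_comp, ker_rTensor_congr h₁, ← LinearMap.ker_comp,
        ← LinearMap.rTensor_comp, ← e3, LinearMap.rTensor_comp, LinearMap.ker_comp, ker_lTensor_congr h₂,
        ← LinearMap.ker_comp, ← LinearMap.rTensor_comp, ← e2]
    rw [hf, LinearMap.rTensor_comp, LinearMap.ker_comp, hmid, ← LinearMap.ker_comp, ← LinearMap.rTensor_comp]

variable {S : Type u} [CommRing S] [Algebra R S]

theorem ml_baseChange (S : Type u) [CommRing S] [Algebra R S] (hM : CAlg.IsMittagLeffler R M) :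
    CAlg.IsMittagLeffler S (S ⊗[R] M) := fun ι Q _ _ => by
  letI : ∀ i, Module R (Q i) := fun i => Module.compHom (Q i) (algebraMap R S)
  haveI : ∀ i, IsScalarTower R S (Q i) := fun i => IsScalarTower.of_algebraMap_smul fun _ _ => rfl
  let e : ∀ (X : Type u) [AddCommGroup X] [Module R X] [Module S X] [IsScalarTower R S X],
      (S ⊗[R] M) ⊗[S] X ≃+ M ⊗[R] X := fun X _ _ _ _ =>
    ((TensorProduct.comm S _ X).toAddEquiv.trans (AlgebraTensorModule.cancelBaseChange R S S X M).toAddEquiv).trans
      (TensorProduct.comm R X M).toAddEquiv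
  have key : ∀ z i, cmp Q M (e (∀ i, Q i) z) i =
      e (Q i) (TensorProduct.piRightHom S S (S ⊗[R] M) Q z i) := by
    intro z i
    induction z with
    | zero => simp
    | add a b ha hb => simp only [map_add, Pi.add_apply, ha, hb]
    | tmul w q =>
      induction w with
      | zero => simp
      | add a b ha hb => simp only [add_tmul, map_add, Pi.add_apply, ha, hb]
      | tmul s m => simp [e, cmp]
  rw [injective_iff_map_eq_zero]
  intro z hz
  apply (e _).injective
  rw [map_zero]
  refine hM ι Q ?_
  rw [map_zero]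
  funext i
  exact (key z i).trans (by rw [hz]; simp)

theorem ml_restrict [Module S M] [IsScalarTower R S M]
    (hS : ∀ (ι : Type u) (Q : ι → Type u) [∀ i, AddCommGroup (Q i)] [∀ i, Module R (Q i)],
      Function.Injective ((TensorProduct.piRightHom R S S Q).lTensor M))
    (hM : CAlg.IsMittagLeffler S M) : CAlg.IsMittagLeffler R M := fun ι Q _ _ => by
  rw [injective_iff_map_eq_zero]
  intro z hz
  let e : ∀ (X : Type u) [AddCommGroup X] [Module R X], M ⊗[S] (S ⊗[R] X) ≃ₗ[S] M ⊗[R] X :=
    fun X _ _ => AlgebraTensorModule.cancelBaseChange R S S M X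
  obtain ⟨y, rfl⟩ := (e _).surjective z
  have key : ∀ y i, e (Q i) (TensorProduct.piRightHom S S M (fun i => S ⊗[R] Q i)
      ((TensorProduct.piRightHom R S S Q).lTensor M y) i) = cmp Q M (e _ y) i := by
    intro y i
    induction y with
    | zero => simp
    | add a b ha hb => simp only [map_add, Pi.add_apply, ha, hb]
    | tmul m w =>
      induction w with
      | zero => simp
      | add a b ha hb => simp only [tmul_add, map_add, Pi.add_apply, ha, hb]
      | tmul s q => simp [e, cmp]
  have h1 : (TensorProduct.piRightHom R S S Q).lTensor M y = 0 := hM ι (fun i => S ⊗[R] Q i) (by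
    rw [map_zero]
    funext i
    apply (e (Q i)).injective
    rw [key, show cmp Q M (e _ y) i = 0 from congrFun hz i, Pi.zero_apply, map_zero])
  rw [hS ι Q (h1.trans (map_zero _).symm), map_zero]

theorem ml_restrict_of_flat [Module S M] [IsScalarTower R S M] [Module.Flat S M]
    (hS : CAlg.IsMittagLeffler R S) (hM : CAlg.IsMittagLeffler S M) : CAlg.IsMittagLeffler R M :=
  ml_restrict (fun ι Q _ _ => Module.Flat.lTensor_preserves_injective_linearMap _ fun a b h =>
    hS ι Q (by
      have key : ∀ x, TensorProduct.piRightHom R S S Q x = TensorProduct.piRightHom R R S Q x := fun x => by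
        induction x with
        | zero => simp
        | add a b ha hb => simp only [map_add, ha, hb]
        | tmul s q => rfl
      rw [← key, ← key]; exact h)) hM

theorem ml_restrict_of_finite [Module S M] [IsScalarTower R S M] [Module.FinitePresentation R S]
    (hM : CAlg.IsMittagLeffler S M) : CAlg.IsMittagLeffler R M :=
  ml_restrict (fun ι Q _ _ => by
    have hb : Function.Bijective (TensorProduct.piRightHom R S S Q) := by
      have key : ∀ x, TensorProduct.piRightHom R S S Q x = cmp Q S x := fun x => by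
        induction x with
        | zero => simp
        | add a b ha hb => simp only [map_add, ha, hb]
        | tmul s q => rfl
      rw [show ⇑(TensorProduct.piRightHom R S S Q) = ⇑(cmp Q S) from funext key]
      exact cmp_bijective Q S
    exact (LinearEquiv.lTensor M (LinearEquiv.ofBijective _ hb)).injective) hM

theorem ml_quotient_ring (I : Ideal R) [Module (R ⧸ I) M] [IsScalarTower R (R ⧸ I) M]
    (hM : CAlg.IsMittagLeffler R M) : CAlg.IsMittagLeffler (R ⧸ I) M := fun ι Q _ _ => by
  letI : ∀ i, Module R (Q i) := fun i => Module.compHom (Q i) (algebraMap R (R ⧸ I))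
  haveI : ∀ i, IsScalarTower R (R ⧸ I) (Q i) := fun i => IsScalarTower.of_algebraMap_smul fun _ _ => rfl
  have hc : ∀ (X : Type u) [AddCommGroup X] [Module R X] [Module (R ⧸ I) X] [IsScalarTower R (R ⧸ I) X],
      TensorProduct.CompatibleSMul R (R ⧸ I) M X := fun X _ _ _ _ => ⟨fun a m x => by
    obtain ⟨r, rfl⟩ := Ideal.Quotient.mk_surjective a
    rw [show (Ideal.Quotient.mk I r) • m = r • m from IsScalarTower.algebraMap_smul (R ⧸ I) r m,
      show (Ideal.Quotient.mk I r) • x = r • x from IsScalarTower.algebraMap_smul (R ⧸ I) r x, smul_tmul]⟩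
  rw [injective_iff_map_eq_zero]
  intro z hz
  haveI := hc (∀ i, Q i)
  let φ : M ⊗[R ⧸ I] (∀ i, Q i) →+ M ⊗[R] (∀ i, Q i) :=
    TensorProduct.liftAddHom
      { toFun := fun m => (TensorProduct.mk R M _ m).toAddMonoidHom
        map_zero' := by ext; simp
        map_add' := fun a b => by ext; simp [add_tmul] }
      (fun r m q => TensorProduct.CompatibleSMul.smul_tmul r m q)
  let ψ : M ⊗[R] (∀ i, Q i) →+ M ⊗[R ⧸ I] (∀ i, Q i) :=
    TensorProduct.liftAddHom
      { toFun := fun m => (TensorProduct.mk (R ⧸ I) M _ m).toAddMonoidHom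
        map_zero' := by ext; simp
        map_add' := fun a b => by ext; simp [add_tmul] }
      (fun r m q => by
        show (r • m) ⊗ₜ[R ⧸ I] q = m ⊗ₜ[R ⧸ I] (r • q)
        rw [← IsScalarTower.algebraMap_smul (R ⧸ I) r q, ← IsScalarTower.algebraMap_smul (R ⧸ I) r m, smul_tmul])
  have hψ : ∀ x, ψ (φ x) = x := fun x => by
    induction x with
    | zero => simp
    | add a b ha hb => simp only [map_add, ha, hb]
    | tmul m q => rfl
  let χ : ∀ i, M ⊗[R ⧸ I] Q i →+ M ⊗[R] Q i := fun i =>
    haveI := hc (Q i)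
    TensorProduct.liftAddHom
      { toFun := fun m => (TensorProduct.mk R M _ m).toAddMonoidHom
        map_zero' := by ext; simp
        map_add' := fun a b => by ext; simp [add_tmul] }
      (fun r m q => TensorProduct.CompatibleSMul.smul_tmul r m q)
  have key : ∀ x i, cmp Q M (φ x) i = χ i (TensorProduct.piRightHom (R ⧸ I) (R ⧸ I) M Q x i) := fun x i => by
    induction x with
    | zero => simp
    | add a b ha hb => simp only [map_add, Pi.add_apply, ha, hb]
    | tmul m q => rfl
  have h0 : φ z = 0 := hM ι Q (by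
    rw [map_zero]
    funext i
    exact (key z i).trans (by rw [hz]; simp))
  rw [← hψ z, h0, map_zero]

end GrothLib.ML
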