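import Mathlib
import Groth.Prelude.Def_Found
import Groth.Agent.Lib.PureExt.Basic

/-!
# Tensor products and products
-/

universe u

open TensorProduct

namespace GrothLib.ML

variable {R : Type u} [CommRing R]
variable {ι : Type u} (Q : ι → Type u) [∀ i, AddCommGroup (Q i)] [∀ i, Module R (Q i)]

/-- The comparison map. -/
noncomputable abbrev cmp (M : Type u) [AddCommGroup M] [Module R M] :
    M ⊗[R] (∀ i, Q i) →ₗ[R] ∀ i, M ⊗[R] Q i := TensorProduct.piRightHom R R M Q

theorem cmp_rTensor {M M' : Type u} [AddCommGroup M] [Module R M] [AddCommGroup M'] [Module R M']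
    (f : M →ₗ[R] M') (z : M ⊗[R] (∀ i, Q i)) (i : ι) :
    cmp Q M' (f.rTensor _ z) i = f.rTensor (Q i) (cmp Q M z i) := by
  induction z with
  | zero => simp
  | tmul m q => simp [cmp]
  | add a b ha hb => simp only [map_add, Pi.add_apply, ha, hb]

theorem cmp_bijective_free (n : ℕ) : Function.Bijective (cmp (R := R) Q (Fin n → R)) := by
  let e : ∀ (X : Type u) [AddCommGroup X] [Module R X], (Fin n → R) ⊗[R] X ≃ₗ[R] (Fin n → X) :=
    fun X _ _ => TensorProduct.comm R _ _ ≪≫ₗ TensorProduct.piScalarRight R R X (Fin n)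
  have key : ∀ z j i, e (∀ i, Q i) z j i = e (Q i) (cmp Q _ z i) j := by
    intro z j i
    induction z with
    | zero => simp
    | tmul v q => simp [e, cmp]
    | add a b ha hb => simp only [map_add, Pi.add_apply, ha, hb]
  constructor
  · rw [injective_iff_map_eq_zero]
    intro z hz
    apply (e _).injective
    ext j i
    rw [key, hz]
    simp
  · intro y
    refine ⟨(e _).symm fun j i => e (Q i) (y i) j, ?_⟩
    ext i
    apply (e (Q i)).injective
    ext j
    rw [← key, LinearEquiv.apply_symm_apply]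

theorem cmp_surjective (M : Type u) [AddCommGroup M] [Module R M] [Module.Finite R M] :
    Function.Surjective (cmp (R := R) Q M) := by
  obtain ⟨n, f, hf⟩ := Module.Finite.exists_fin' R M
  intro y
  choose v hv using fun i => LinearMap.rTensor_surjective (Q i) hf (y i)
  obtain ⟨w, hw⟩ := (cmp_bijective_free Q n).2 v
  exact ⟨f.rTensor _ w, funext fun i => by rw [cmp_rTensor, hw, hv]⟩

theorem cmp_bijective (M : Type u) [AddCommGroup M] [Module R M] [Module.FinitePresentation R M] :
    Function.Bijective (cmp (R := R) Q M) := by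
  refine ⟨?_, cmp_surjective Q M⟩
  obtain ⟨n, f, hf⟩ := Module.Finite.exists_fin' R M
  haveI : Module.Finite R (LinearMap.ker f) :=
    .of_fg (Module.FinitePresentation.fg_ker f hf)
  rw [injective_iff_map_eq_zero]
  intro z hz
  obtain ⟨w, rfl⟩ := LinearMap.rTensor_surjective _ hf z
  have h1 : ∀ i, ∃ t, (LinearMap.ker f).subtype.rTensor (Q i) t = cmp Q _ w i := fun i =>
    (rTensor_exact (Q i) (LinearMap.exact_subtype_ker_map f) hf _).1 (by rw [← cmp_rTensor, hz]; rfl)
  choose t ht using h1
  obtain ⟨s, hs⟩ := cmp_surjective Q (LinearMap.ker f) t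
  have h2 : (LinearMap.ker f).subtype.rTensor _ s = w :=
    (cmp_bijective_free Q n).1 (funext fun i => by rw [cmp_rTensor, hs, ht])
  rw [← h2, ← LinearMap.comp_apply, ← LinearMap.rTensor_comp, LinearMap.comp_ker_subtype,
    LinearMap.rTensor_zero, LinearMap.zero_apply]

omit Q in
theorem finite_of_cmp_surjective (M : Type u) [AddCommGroup M] [Module R M]
    (h : Function.Surjective (cmp (R := R) (fun _ : M => R) M)) : Module.Finite R M := by
  classical
  obtain ⟨z, hz⟩ := h fun m => m ⊗ₜ[R] (1 : R)
  obtain ⟨S, rfl⟩ := TensorProduct.exists_finset z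
  refine ⟨⟨S.image Prod.fst, eq_top_iff.2 fun m _ => ?_⟩⟩
  have := congrArg (TensorProduct.rid R M) (congrFun hz m)
  simp only [map_sum, Finset.sum_apply, TensorProduct.piRightHom_tmul, cmp, TensorProduct.rid_tmul, one_smul] at this
  rw [← this]
  exact Submodule.sum_mem _ fun p hp => Submodule.smul_mem _ _
    (Submodule.subset_span (Finset.mem_coe.2 (Finset.mem_image_of_mem _ hp)))

omit Q in
theorem finitePresentation_of_cmp_bijective (M : Type u) [AddCommGroup M] [Module R M]
    (h : ∀ κ : Type u, Function.Bijective (cmp (R := R) (fun _ : κ => R) M)) :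
    Module.FinitePresentation R M := by
  haveI := finite_of_cmp_surjective M (h M).2
  obtain ⟨n, f, hf⟩ := Module.Finite.exists_fin' R M
  suffices hK : Module.Finite R (LinearMap.ker f) from
    Module.finitePresentation_of_surjective f hf (Module.Finite.iff_fg.1 hK)
  refine finite_of_cmp_surjective _ fun y => ?_
  obtain ⟨w, hw⟩ := (cmp_bijective_free (fun _ : LinearMap.ker f => R) n).2
    fun i => (LinearMap.ker f).subtype.rTensor R (y i)
  have h0 : f.rTensor _ w = 0 := (h _).1 (funext fun i => by
    rw [cmp_rTensor, hw, map_zero, ← LinearMap.comp_apply, ← LinearMap.rTensor_comp,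
      LinearMap.comp_ker_subtype, LinearMap.rTensor_zero]
    rfl)
  obtain ⟨s, hs⟩ := (rTensor_exact _ (LinearMap.exact_subtype_ker_map f) hf w).1 h0
  refine ⟨s, funext fun i => ?_⟩
  apply Module.Flat.rTensor_preserves_injective_linearMap (M := R) (LinearMap.ker f).subtype
    (Submodule.injective_subtype _)
  rw [← congrFun hw i, ← cmp_rTensor (fun _ : LinearMap.ker f => R), hs]

/-- An element killed in `B ⊗ Q` is killed over a finitely presented module mapping to `Q`. -/
theorem exists_fp_kill {A B : Type u} [AddCommGroup A] [Module R A] [AddCommGroup B] [Module R B]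
    {Q : Type u} [AddCommGroup Q] [Module R Q] (f : A →ₗ[R] B) (z : A ⊗[R] Q) (hz : f.rTensor Q z = 0) :
    ∃ (Q' : Type u) (_ : AddCommGroup Q') (_ : Module R Q') (_ : Module.FinitePresentation R Q')
      (h : Q' →ₗ[R] Q) (z' : A ⊗[R] Q'), h.lTensor A z' = z ∧ f.rTensor Q' z' = 0 := by
  classical
  let π : (Q →₀ R) →ₗ[R] Q := Finsupp.linearCombination R id
  have hπ : Function.Surjective π := fun q => ⟨Finsupp.single q 1, by simp [π]⟩
  obtain ⟨zt, rfl⟩ := LinearMap.lTensor_surjective A hπ z
  have hzt : π.lTensor B (f.rTensor _ zt) = 0 := by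
    rw [← LinearMap.comp_apply, LinearMap.lTensor_comp_rTensor, ← LinearMap.rTensor_comp_lTensor,
      LinearMap.comp_apply, hz]
  have hex : Function.Exact ((LinearMap.ker π).subtype.lTensor B) (π.lTensor B) :=
    lTensor_exact (M := ↥(LinearMap.ker π)) B (LinearMap.exact_subtype_ker_map π) hπ
  obtain ⟨w, hw⟩ := (hex _).1 hzt
  obtain ⟨W, rfl⟩ := TensorProduct.exists_finset w
  obtain ⟨Z, rfl⟩ := TensorProduct.exists_finset zt
  let S : Finset Q := (Z.biUnion fun p => p.2.support) ∪ (W.biUnion fun p => (p.2 : Q →₀ R).support)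
  let e : (S →₀ R) →ₗ[R] (Q →₀ R) := Finsupp.lmapDomain R R Subtype.val
  have he : Function.Injective e := Finsupp.mapDomain_injective Subtype.val_injective
  have hre : ∀ v : Q →₀ R, v.support ⊆ S → ∃ v', e v' = v := fun v hv =>
    ⟨v.comapDomain Subtype.val Subtype.val_injective.injOn, Finsupp.mapDomain_comapDomain _
      Subtype.val_injective _ fun q hq => ⟨⟨q, hv hq⟩, rfl⟩⟩
  choose a ha using fun p : Z => hre p.1.2 fun q hq =>
    Finset.mem_union_left _ (Finset.mem_biUnion.2 ⟨p.1, p.2, hq⟩)
  choose ν hν using fun p : W => hre (p.1.2 : Q →₀ R) fun q hq =>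
    Finset.mem_union_right _ (Finset.mem_biUnion.2 ⟨p.1, p.2, hq⟩)
  let N := Submodule.span R (Set.range ν)
  haveI : Module.FinitePresentation R ((S →₀ R) ⧸ N) :=
    Module.finitePresentation_of_surjective _ (Submodule.mkQ_surjective N)
      (by rw [Submodule.ker_mkQ]; exact Submodule.fg_span (Set.finite_range ν))
  have hN : N ≤ LinearMap.ker (π ∘ₗ e) := by
    rw [Submodule.span_le]
    rintro _ ⟨p, rfl⟩
    show π (e (ν p)) = 0
    rw [hν]
    exact p.1.2.2
  refine ⟨_, inferInstance, inferInstance, ‹_›, N.liftQ (π ∘ₗ e) hN,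
    ∑ p : Z, p.1.1 ⊗ₜ[R] N.mkQ (a p), ?_, ?_⟩
  · rw [map_sum, map_sum, ← Finset.sum_coe_sort Z]
    refine Finset.sum_congr rfl fun p _ => ?_
    simp [ha]
  · have h1 : ∑ p : Z, f p.1.1 ⊗ₜ[R] a p = ∑ p : W, p.1.1 ⊗ₜ[R] ν p := by
      let r : (Q →₀ R) →ₗ[R] (S →₀ R) := Finsupp.lcomapDomain Subtype.val Subtype.val_injective
      have hr : r ∘ₗ e = LinearMap.id := LinearMap.ext fun v =>
        Finsupp.comapDomain_mapDomain _ Subtype.val_injective v
      have hinj : Function.Injective (e.lTensor B) :=
        Function.LeftInverse.injective (g := r.lTensor B) fun x => by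
          rw [← LinearMap.comp_apply, ← LinearMap.lTensor_comp, hr, LinearMap.lTensor_id, LinearMap.id_apply]
      apply hinj
      simp only [map_sum, LinearMap.lTensor_tmul, ha, hν]
      rw [map_sum, map_sum, ← Finset.sum_coe_sort W, ← Finset.sum_coe_sort Z] at hw
      exact hw.symm
    have h2 := congrArg (N.mkQ.lTensor B) h1
    simp only [map_sum, LinearMap.lTensor_tmul] at h2
    simp only [map_sum, LinearMap.rTensor_tmul]
    rw [h2]
    refine Finset.sum_eq_zero fun p _ => ?_
    rw [Submodule.mkQ_apply, (Submodule.Quotient.mk_eq_zero N).2 (Submodule.subset_span (Set.mem_range_self p)),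
      tmul_zero]

end GrothLib.ML
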