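import Groth.Agent.Lib.ML.Kaplansky

/-!
# Devissages into countably generated pieces
-/

universe u

open TensorProduct
open scoped Classical

namespace GrothLib.ML

variable {R : Type u} [CommRing R] {M : Type u} [AddCommGroup M] [Module R M]
variable {S : Type u} [LinearOrder S] [WellFoundedLT S] (Mf : S → Submodule R M)

theorem devissage_internal [DecidableEq {p : S × S // p.1 ⋖ p.2}] (hmono : Monotone Mf)
    (hlim : ∀ s : S, Order.IsSuccPrelimit s → Mf s = ⨆ t : {t : S // t < s}, Mf t.1)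
    (htop : (⨆ s, Mf s) = ⊤)
    (C : {p : S × S // p.1 ⋖ p.2} → Submodule R M)
    (hC : ∀ p, Mf p.1.1 ⊓ C p = ⊥ ∧ Mf p.1.1 ⊔ C p = Mf p.1.2) :
    DirectSum.IsInternal C := by
  refine DirectSum.isInternal_submodule_of_iSupIndep_of_iSup_eq_top ?_ ?_
  · rw [iSupIndep_iff_supIndep]
    intro F
    induction F using Finset.induction_on_max_value (fun p : {p : S × S // p.1 ⋖ p.2} => p.1.2) with
    | empty => exact Finset.supIndep_empty _
    | insert p F hp hmax ih =>
      refine ih.insert ((disjoint_iff.2 ((inf_comm _ _).trans (hC p).1)).mono_right ?_)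
      refine Finset.sup_le fun q hq => ?_
      have hne : q.1.2 ≠ p.1.2 := fun e => hp (by
        have h1 : q.1.1 = p.1.1 := CovBy.unique_left (e ▸ q.2) p.2
        rwa [← Subtype.ext (Prod.ext h1 e : q.1 = p.1)])
      have h1 : q.1.2 < p.1.2 := lt_of_le_of_ne (hmax q hq) hne
      have h2 : q.1.2 ≤ p.1.1 := not_lt.1 fun h => p.2.2 h h1
      exact (le_sup_of_le_right le_rfl).trans ((hC q).2.le.trans (hmono h2))
  · rw [eq_top_iff, ← htop]
    refine iSup_le fun s => ?_
    induction s using WellFoundedLT.induction with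
    | _ s ih =>
      by_cases h : Order.IsSuccPrelimit s
      · rw [hlim s h]
        exact iSup_le fun t => ih t.1 t.2
      · obtain ⟨t, ht⟩ := Order.not_isSuccPrelimit_iff.1 h
        exact (hC ⟨(t, s), ht⟩).2.ge.trans (sup_le (ih t ht.lt) (le_iSup C ⟨(t, s), ht⟩))

/-- The quotient of successive steps is the complement. -/
noncomputable def quotEquiv {A B C : Submodule R M} (h1 : A ⊓ C = ⊥) (h2 : A ⊔ C = B) :
    C ≃ₗ[R] B ⧸ A.comap B.subtype :=
  LinearEquiv.ofBijective ((A.comap B.subtype).mkQ ∘ₗ Submodule.inclusion (h2 ▸ le_sup_right : C ≤ B)) (by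
    refine ⟨(injective_iff_map_eq_zero _).2 fun x hx => ?_, fun y => ?_⟩
    · have hxA : (x : M) ∈ A := Submodule.mem_comap.1 ((Submodule.Quotient.mk_eq_zero (A.comap B.subtype)).1 hx)
      exact Subtype.ext ((Submodule.mem_bot R).1 (h1 ▸ ⟨hxA, x.2⟩))
    · obtain ⟨⟨b, hb⟩, rfl⟩ := Submodule.mkQ_surjective _ y
      obtain ⟨a, ha, c, hc, rfl⟩ := Submodule.mem_sup.1 (h2.ge hb)
      refine ⟨⟨c, hc⟩, ?_⟩
      rw [LinearMap.comp_apply, Submodule.mkQ_apply, Submodule.mkQ_apply, Submodule.Quotient.eq]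
      show (c - (a + c)) ∈ A
      simpa using A.neg_mem ha)

theorem nonempty_equiv_of_devissage (hmono : Monotone Mf)
    (hlim : ∀ s : S, Order.IsSuccPrelimit s → Mf s = ⨆ t : {t : S // t < s}, Mf t.1)
    (htop : (⨆ s, Mf s) = ⊤)
    (hs : ∀ s t : S, s ⋖ t → ∃ C : Submodule R M, Mf s ⊓ C = ⊥ ∧ Mf s ⊔ C = Mf t) :
    Nonempty (M ≃ₗ[R] DirectSum {p : S × S // p.1 ⋖ p.2}
      fun p => ↥(Mf p.1.2) ⧸ Submodule.comap (Mf p.1.2).subtype (Mf p.1.1)) := by
  choose C hC using fun p : {p : S × S // p.1 ⋖ p.2} => hs p.1.1 p.1.2 p.2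
  have h := devissage_internal Mf hmono hlim htop C hC
  exact ⟨(LinearEquiv.ofBijective (DirectSum.coeLinearMap C) h).symm.trans
    (DFinsupp.mapRange.linearEquiv fun p => quotEquiv (hC p).1 (hC p).2)⟩

theorem internal_iff_devissage :
    (∃ (ι : Type u) (N : ι → Submodule R M), DirectSum.IsInternal N ∧ ∀ i, CAlg.IsCountablyGenerated R (N i)) ↔
      ∃ (S : Type u) (_ : LinearOrder S) (_ : WellFoundedLT S) (Mf : S → Submodule R M), Monotone Mf ∧
        (∀ s : S, Order.IsSuccPrelimit s → Mf s = ⨆ t : {t : S // t < s}, Mf t.1) ∧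
        (⨆ s, Mf s) = ⊤ ∧
        (∀ s t : S, s ⋖ t → ∃ C : Submodule R M, Mf s ⊓ C = ⊥ ∧ Mf s ⊔ C = Mf t ∧
          CAlg.IsCountablyGenerated R (↥(Mf t) ⧸ Submodule.comap (Mf t).subtype (Mf s))) := by
  constructor
  · rintro ⟨ι, N, hN, hc⟩
    have hind := hN.submodule_iSupIndep
    have hsup := hN.submodule_iSup_eq_top
    letI : LinearOrder ι := linearOrderOfSTO (WellOrderingRel (α := ι))
    haveI : WellFoundedLT ι := ⟨WellOrderingRel.isWellOrder.wf⟩
    let Mf : WithTop ι → Submodule R M := fun s => ⨆ (i : ι) (_ : (i : WithTop ι) < s), N i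
    have hcov : ∀ s t : WithTop ι, s ⋖ t → ∃ i : ι, s = i ∧ ∀ j : ι, (j : WithTop ι) < t ↔ ((j : WithTop ι) < s ∨ j = i) := by
      intro s t h
      induction s using WithTop.recTopCoe with
      | top => exact absurd h.lt not_top_lt
      | coe i =>
        refine ⟨i, rfl, fun j => ⟨fun hj => ?_, ?_⟩⟩
        · rcases lt_trichotomy j i with h' | h' | h'
          · exact Or.inl (WithTop.coe_lt_coe.2 h')
          · exact Or.inr h'
          · exact absurd hj (h.2 (WithTop.coe_lt_coe.2 h'))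
        · rintro (hj | rfl)
          · exact hj.trans h.lt
          · exact h.lt
    refine ⟨WithTop ι, inferInstance, inferInstance, Mf, fun a b hab => iSup₂_le fun i hi =>
      le_iSup₂_of_le i (hi.trans_le hab) le_rfl, fun s hs => ?_, ?_, fun s t h => ?_⟩
    · refine le_antisymm (iSup₂_le fun i hi => ?_)
        (iSup_le fun t => iSup₂_le fun i hi => le_iSup₂_of_le i (hi.trans t.2) le_rfl)
      obtain ⟨t, hit, hts⟩ : ∃ t, (i : WithTop ι) < t ∧ t < s := by
        by_contra hcon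
        exact hs i ⟨hi, fun t hit hts => hcon ⟨t, hit, hts⟩⟩
      exact le_iSup_of_le ⟨t, hts⟩ (le_iSup₂_of_le i hit le_rfl)
    · rw [eq_top_iff, ← hsup]
      exact iSup_le fun i => le_iSup_of_le ⊤ (le_iSup₂_of_le i (WithTop.coe_lt_top i) le_rfl)
    · obtain ⟨i, rfl, hi⟩ := hcov s t h
      have h2 : Mf ↑i ⊔ N i = Mf t := by
        refine le_antisymm (sup_le (iSup₂_le fun j hj => le_iSup₂_of_le j (hj.trans h.lt) le_rfl)
          (le_iSup₂_of_le i h.lt le_rfl)) (iSup₂_le fun j hj => ?_)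
        rcases (hi j).1 hj with hj | rfl
        · exact le_sup_of_le_left (le_iSup₂_of_le j hj le_rfl)
        · exact le_sup_right
      have h1 : Mf ↑i ⊓ N i = ⊥ := by
        rw [inf_comm, ← disjoint_iff]
        refine (hind i).mono_right (iSup₂_le fun j hj => ?_)
        exact le_iSup₂_of_le j (fun e => by simp [e] at hj) le_rfl
      exact ⟨N i, h1, h2, isCountablyGenerated_of_equiv (quotEquiv h1 h2) (hc i)⟩
  · rintro ⟨S, _, _, Mf, hmono, hlim, htop, hs⟩
    choose C h1 h2 hc using fun p : {p : S × S // p.1 ⋖ p.2} => hs p.1.1 p.1.2 p.2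
    exact ⟨_, C, @devissage_internal R _ M _ _ S _ _ Mf (fun a b => Classical.propDecidable (a = b)) hmono hlim htop C fun p => ⟨h1 p, h2 p⟩,
      fun p => isCountablyGenerated_of_equiv (quotEquiv (h1 p) (h2 p)).symm (hc p)⟩

theorem cg_descent {S : Type u} [CommRing S] [Algebra R S] [Module.FaithfullyFlat R S]
    (h : CAlg.IsCountablyGenerated S (S ⊗[R] M)) : CAlg.IsCountablyGenerated R M := by
  obtain ⟨T, hT, hspan⟩ := h
  choose F hF using fun t : S ⊗[R] M => TensorProduct.exists_finset t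
  let s : Set M := ⋃ t ∈ T, ((F t).image Prod.snd : Set M)
  refine ⟨s, hT.biUnion fun t _ => (Finset.countable_toSet _), ?_⟩
  have hsurj : Function.Surjective ((Submodule.span R s).subtype.lTensor S) := by
    have : LinearMap.range ((Submodule.span R s).subtype.baseChange S) = ⊤ := by
      rw [eq_top_iff, ← hspan, Submodule.span_le]
      intro t ht
      rw [SetLike.mem_coe, hF t]
      exact Submodule.sum_mem _ fun p hp => ⟨p.1 ⊗ₜ[R] ⟨p.2, Submodule.subset_span
        (Set.mem_biUnion ht (Finset.mem_coe.2 (Finset.mem_image_of_mem _ hp)))⟩, by simp⟩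
    intro y
    obtain ⟨x, hx⟩ := this.ge (Submodule.mem_top (x := y))
    exact ⟨x, hx⟩
  rw [eq_top_iff]
  intro x _
  obtain ⟨⟨y, hy⟩, rfl⟩ := (Module.FaithfullyFlat.lTensor_surjective_iff_surjective R S _).1 hsurj x
  exact hy

theorem exists_adapted {S : Type u} [CommRing S] [Algebra R S] {I : Type u} (Q : I → Submodule S (S ⊗[R] M))
    (hQ : ⨆ i, Q i = ⊤) (hQc : ∀ i, ∃ t : Set (S ⊗[R] M), t.Countable ∧ Submodule.span S t = Q i)
    (N : Submodule R M) (hN : ∃ s : Set M, s.Countable ∧ Submodule.span R s = N) :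
    ∃ (N' : Submodule R M) (I' : Set I), N ≤ N' ∧ (∃ s : Set M, s.Countable ∧ Submodule.span R s = N') ∧
      Submodule.span S ((TensorProduct.mk R S M 1) '' (N' : Set M)) = ⨆ i ∈ I', Q i := by
  obtain ⟨s0, hs0, rfl⟩ := hN
  choose G hG hGspan using hQc
  choose F hF using fun t : S ⊗[R] M => TensorProduct.exists_finset t
  choose J hJ using fun x : S ⊗[R] M => Submodule.mem_iSup_iff_exists_finset.1 (hQ.ge (Submodule.mem_top (x := x)))
  let idx : Set M → Set I := fun s => ⋃ m ∈ s, (J ((1 : S) ⊗ₜ[R] m) : Set I)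
  let parts : Set I → Set M := fun K => ⋃ i ∈ K, ⋃ g ∈ G i, ((F g).image Prod.snd : Set M)
  let s : ℕ → Set M := fun n => Nat.rec (motive := fun _ => Set M) s0 (fun _ t => t ∪ parts (idx t)) n
  have hs : ∀ n, (s n).Countable := fun n => by
    induction n with
    | zero => exact hs0
    | succ n ih =>
      refine ih.union ((ih.biUnion fun m _ => Finset.countable_toSet _).biUnion fun i _ => ?_)
      exact (hG i).biUnion fun g _ => Finset.countable_toSet _
  refine ⟨Submodule.span R (⋃ n, s n), ⋃ n, idx (s n), Submodule.span_mono (Set.subset_iUnion s 0),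
    ⟨_, Set.countable_iUnion hs, rfl⟩, le_antisymm ?_ (iSup₂_le fun i hi => ?_)⟩
  · rw [Submodule.span_le]
    rintro _ ⟨x, hx, rfl⟩
    have hle : Submodule.span R (⋃ n, s n) ≤
        ((⨆ i ∈ ⋃ n, idx (s n), Q i).restrictScalars R).comap (TensorProduct.mk R S M 1) := by
      rw [Submodule.span_le]
      rintro m hm
      obtain ⟨n, hn⟩ := Set.mem_iUnion.1 hm
      exact (iSup₂_le fun i hi => le_iSup₂_of_le i (Set.mem_iUnion.2 ⟨n, Set.mem_biUnion hn hi⟩) le_rfl :
        (⨆ i ∈ J ((1 : S) ⊗ₜ[R] m), Q i) ≤ _) (hJ _)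
    exact hle hx
  · rw [← hGspan i, Submodule.span_le]
    intro g hg
    obtain ⟨n, hn⟩ := Set.mem_iUnion.1 hi
    rw [SetLike.mem_coe, hF g]
    refine Submodule.sum_mem _ fun p hp => ?_
    rw [show p.1 ⊗ₜ[R] p.2 = p.1 • ((1 : S) ⊗ₜ[R] p.2) by simp [TensorProduct.smul_tmul']]
    exact Submodule.smul_mem _ _ (Submodule.subset_span ⟨p.2, Submodule.subset_span (Set.mem_iUnion.2
      ⟨n + 1, Or.inr (Set.mem_biUnion hn (Set.mem_biUnion hg (Finset.mem_coe.2 (Finset.mem_image_of_mem _ hp))))⟩), rfl⟩)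

end GrothLib.ML
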