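import Groth.Agent.Lib.ML.Basic

/-!
# Domination and Mittag-Leffler modules
-/

universe u

open TensorProduct

namespace GrothLib.ML

variable {R : Type u} [CommRing R]
variable {P M N M' : Type u} [AddCommGroup P] [Module R P] [AddCommGroup M] [Module R M]
  [AddCommGroup N] [Module R N] [AddCommGroup M'] [Module R M']

/-- `f` dominates `g`. -/
def Dom (f : P →ₗ[R] N) (g : P →ₗ[R] M') : Prop :=
  ∀ (Q : Type u) [AddCommGroup Q] [Module R Q], LinearMap.ker (f.rTensor Q) ≤ LinearMap.ker (g.rTensor Q)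

theorem dom_of_fp {f : P →ₗ[R] N} {g : P →ₗ[R] M'}
    (h : ∀ (Q : Type u) [AddCommGroup Q] [Module R Q], Module.FinitePresentation R Q →
      LinearMap.ker (f.rTensor Q) ≤ LinearMap.ker (g.rTensor Q)) : Dom f g := by
  intro Q _ _ z hz
  obtain ⟨Q', _, _, hQ', q, z', rfl, hz'⟩ := exists_fp_kill f z hz
  rw [LinearMap.mem_ker, ← LinearMap.comp_apply, LinearMap.rTensor_comp_lTensor,
    ← LinearMap.lTensor_comp_rTensor, LinearMap.comp_apply,
    LinearMap.mem_ker.1 (h Q' hQ' hz'), map_zero]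

theorem ker_comp_ge {Q : Type u} [AddCommGroup Q] [Module R Q] (g : P →ₗ[R] N) (h : N →ₗ[R] M) :
    LinearMap.ker (g.rTensor Q) ≤ LinearMap.ker ((h ∘ₗ g).rTensor Q) := fun x hx => by
  rw [LinearMap.mem_ker, LinearMap.rTensor_comp, LinearMap.comp_apply, LinearMap.mem_ker.1 hx, map_zero]

theorem dom_of_comp (g : P →ₗ[R] N) (h : N →ₗ[R] M) : Dom g (h ∘ₗ g) := fun _ _ _ => ker_comp_ge g h

theorem Dom.trans {f : P →ₗ[R] N} {g : P →ₗ[R] M'} {k : P →ₗ[R] M} (h₁ : Dom f g) (h₂ : Dom g k) :
    Dom f k := fun Q _ _ => (h₁ Q).trans (h₂ Q)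

/-- A dominated map factors through the dominating one when the cokernel is finitely presented. -/
theorem factor_of_dom (f : P →ₗ[R] N) (g : P →ₗ[R] M') [Module.FinitePresentation R (N ⧸ LinearMap.range f)]
    (h : Dom f g) : ∃ t : N →ₗ[R] M', g = t ∘ₗ f := by
  classical
  let φ : P →ₗ[R] N × M' := f.prod (-g)
  let T := (N × M') ⧸ LinearMap.range φ
  let i : M' →ₗ[R] T := (LinearMap.range φ).mkQ ∘ₗ LinearMap.inr R N M'
  let p : T →ₗ[R] N ⧸ LinearMap.range f := (LinearMap.range φ).liftQ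
    ((LinearMap.range f).mkQ ∘ₗ LinearMap.fst R N M') (by
      rintro _ ⟨x, rfl⟩
      simp [φ])
  have hp : Function.Surjective p := fun y => by
    obtain ⟨v, rfl⟩ := Submodule.mkQ_surjective _ y
    exact ⟨Submodule.Quotient.mk (v, 0), rfl⟩
  have hi : ∀ (Q : Type u) [AddCommGroup Q] [Module R Q], Function.Injective (i.rTensor Q) := by
    intro Q _ _
    rw [injective_iff_map_eq_zero]
    intro y hy
    rw [LinearMap.rTensor_comp, LinearMap.comp_apply] at hy
    obtain ⟨x, hx⟩ := ((rTensor_exact Q (LinearMap.exact_map_mkQ_range φ) (Submodule.mkQ_surjective _)) _).1 hy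
    have h1 := congrArg ((LinearMap.fst R N M').rTensor Q) hx
    have h2 := congrArg ((LinearMap.snd R N M').rTensor Q) hx
    simp only [← LinearMap.comp_apply, ← LinearMap.rTensor_comp] at h1 h2
    rw [show LinearMap.fst R N M' ∘ₗ φ = f from rfl, show LinearMap.fst R N M' ∘ₗ LinearMap.inr R N M' = 0 from
      LinearMap.ext fun _ => rfl, LinearMap.rTensor_zero, LinearMap.zero_apply] at h1
    rw [show LinearMap.snd R N M' ∘ₗ φ = -g from rfl, show LinearMap.snd R N M' ∘ₗ LinearMap.inr R N M' = LinearMap.id from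
      LinearMap.ext fun _ => rfl, LinearMap.rTensor_id, LinearMap.id_apply, LinearMap.rTensor_neg, LinearMap.neg_apply,
      LinearMap.mem_ker.1 (h Q h1), neg_zero] at h2
    exact h2.symm
  have hker : LinearMap.ker p = LinearMap.range i := by
    refine le_antisymm (fun t ht => ?_) ?_
    · obtain ⟨⟨a, b⟩, rfl⟩ := Submodule.mkQ_surjective _ t
      have ha : Submodule.Quotient.mk (p := LinearMap.range f) a = 0 := LinearMap.mem_ker.1 ht
      obtain ⟨x, hx⟩ := (Submodule.Quotient.mk_eq_zero _).1 ha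
      refine ⟨b + g x, ?_⟩
      show Submodule.Quotient.mk ((0 : N), b + g x) = Submodule.Quotient.mk (a, b)
      rw [Submodule.Quotient.eq]
      exact ⟨-x, by simp [φ, hx]⟩
    · rintro _ ⟨b, rfl⟩
      exact LinearMap.mem_ker.2 (show (LinearMap.range f).mkQ 0 = 0 from map_zero _)
  have hinj : Function.Injective i := fun a b e => by
    have h1 := hi R (a₁ := a ⊗ₜ (1 : R)) (a₂ := b ⊗ₜ (1 : R)) (by simp [e])
    simpa using congrArg (TensorProduct.rid R M') h1
  have hui : CAlgX.UniversallyInjective R (LinearMap.ker p).subtype := by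
    intro Q _ _
    let e : M' ≃ₗ[R] LinearMap.ker p := LinearEquiv.ofInjective i hinj ≪≫ₗ LinearEquiv.ofEq _ _ hker.symm
    have : (LinearMap.ker p).subtype = i ∘ₗ e.symm.toLinearMap := by
      refine LinearMap.ext fun x => ?_
      obtain ⟨b, rfl⟩ := e.surjective x
      simp [e]
    rw [this, LinearMap.rTensor_comp]
    exact (hi Q).comp (LinearEquiv.rTensor Q e.symm).injective
  obtain ⟨s, hs⟩ := PureExt.pureProj_of_finitePresentation (R := R) (N ⧸ LinearMap.range f) p hp hui LinearMap.id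
  let d : N →ₗ[R] T := (LinearMap.id - s ∘ₗ p) ∘ₗ (LinearMap.range φ).mkQ ∘ₗ LinearMap.inl R N M'
  have hmem : ∀ v, d v ∈ LinearMap.range i := by
    intro v
    rw [← hker, LinearMap.mem_ker]
    show p (Submodule.Quotient.mk (v, 0) - s (p (Submodule.Quotient.mk (v, 0)))) = 0
    rw [map_sub, ← LinearMap.comp_apply p s, hs, LinearMap.id_apply]
    exact sub_self _
  let e' : M' ≃ₗ[R] LinearMap.range i := LinearEquiv.ofInjective i hinj
  refine ⟨e'.symm.toLinearMap ∘ₗ d.codRestrict (LinearMap.range i) hmem, LinearMap.ext fun x => e'.injective ?_⟩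
  rw [LinearMap.comp_apply, LinearMap.comp_apply, LinearEquiv.coe_coe, LinearEquiv.apply_symm_apply]
  apply Subtype.ext
  show Submodule.Quotient.mk ((0 : N), g x) = Submodule.Quotient.mk (f x, (0 : M')) - s (p (Submodule.Quotient.mk (f x, 0)))
  have hpx : p (Submodule.Quotient.mk (f x, (0 : M'))) = 0 :=
    (Submodule.Quotient.mk_eq_zero _).2 ⟨x, rfl⟩
  rw [hpx, map_zero, sub_zero, Submodule.Quotient.eq]
  exact ⟨-x, by simp [φ]⟩

/-- Factor through a finitely presented module killing a given element. -/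
theorem exists_factor_kill {Q : Type u} [AddCommGroup Q] [Module R Q] [Module.FinitePresentation R P]
    (f : P →ₗ[R] M) (x : P ⊗[R] Q) (hx : f.rTensor Q x = 0) :
    ∃ (P' : Type u) (_ : AddCommGroup P') (_ : Module R P') (_ : Module.FinitePresentation R P')
      (f' : P →ₗ[R] P') (h : P' →ₗ[R] M), f = h ∘ₗ f' ∧ f'.rTensor Q x = 0 := by
  classical
  obtain ⟨n, π, hπ⟩ := Module.Finite.exists_fin' R P
  let Φ : (M →₀ R) →ₗ[R] M := Finsupp.linearCombination R id
  have hΦ : Function.Surjective Φ := fun q => ⟨Finsupp.single q 1, by simp [Φ]⟩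
  obtain ⟨xt, rfl⟩ := LinearMap.rTensor_surjective Q hπ x
  -- lift `f` on the generators
  let s : (Fin n → R) →ₗ[R] (M →₀ R) := Fintype.linearCombination R fun i => Finsupp.single (f (π (Pi.single i 1))) 1
  have hs : Φ ∘ₗ s = f ∘ₗ π := LinearMap.pi_ext' fun i => LinearMap.ext_ring (by
    simp [Φ, s, Fintype.linearCombination_apply_single])
  have hxt : Φ.rTensor Q (s.rTensor Q xt) = 0 := by
    rw [← LinearMap.comp_apply, ← LinearMap.rTensor_comp, hs, LinearMap.rTensor_comp, LinearMap.comp_apply, hx]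
  have hex : Function.Exact ((LinearMap.ker Φ).subtype.rTensor Q) (Φ.rTensor Q) :=
    rTensor_exact (M := ↥(LinearMap.ker Φ)) Q (LinearMap.exact_subtype_ker_map Φ) hΦ
  obtain ⟨w, hw⟩ := (hex _).1 hxt
  obtain ⟨W, rfl⟩ := TensorProduct.exists_finset w
  let S : Finset M := (Finset.univ.image fun i => f (π (Pi.single i 1))) ∪
    (W.biUnion fun p => (p.1 : M →₀ R).support)
  let e : (S →₀ R) →ₗ[R] (M →₀ R) := Finsupp.lmapDomain R R Subtype.val
  let r : (M →₀ R) →ₗ[R] (S →₀ R) := Finsupp.lcomapDomain Subtype.val Subtype.val_injective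
  have her : ∀ v : M →₀ R, v.support ⊆ S → e (r v) = v := fun v hv =>
    Finsupp.mapDomain_comapDomain _ Subtype.val_injective _ fun q hq => ⟨⟨q, hv hq⟩, rfl⟩
  let K : Submodule R (Fin n → R) := LinearMap.ker π
  let N' : Submodule R (P × (S →₀ R)) :=
    Submodule.span R (Set.range fun i : Fin n => (π (Pi.single i 1), -(r (s (Pi.single i 1))))) ⊔
      Submodule.span R (Set.range fun p : W => ((0 : P), r p.1.1))
  haveI : Module.FinitePresentation R ((P × (S →₀ R)) ⧸ N') :=
    Module.finitePresentation_of_surjective _ (Submodule.mkQ_surjective N')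
      (by rw [Submodule.ker_mkQ]; exact (Submodule.fg_span (Set.finite_range _)).sup (Submodule.fg_span (Set.finite_range _)))
  have hs' : ∀ i, (s (Pi.single i 1)).support ⊆ S := fun i q hq => by
    refine Finset.mem_union_left _ (Finset.mem_image.2 ⟨i, Finset.mem_univ _, ?_⟩)
    simp only [s, Fintype.linearCombination_apply_single, one_smul] at hq
    exact (Finset.mem_singleton.1 (Finsupp.support_single_subset hq)).symm
  have hN : N' ≤ LinearMap.ker (f.coprod (Φ ∘ₗ e)) := by
    refine sup_le ?_ ?_ <;> rw [Submodule.span_le] <;> rintro _ ⟨i, rfl⟩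
    · have := LinearMap.congr_fun hs (Pi.single i 1)
      simp only [LinearMap.comp_apply] at this
      simp [LinearMap.mem_ker, her _ (hs' i), this]
    · simp [LinearMap.mem_ker, her _ (fun q hq => Finset.mem_union_right _ (Finset.mem_biUnion.2 ⟨i.1, i.2, hq⟩)),
        show Φ (i.1.1 : M →₀ R) = 0 from i.1.1.2]
  let f' : P →ₗ[R] (P × (S →₀ R)) ⧸ N' := N'.mkQ ∘ₗ LinearMap.inl R P (S →₀ R)
  let j : (S →₀ R) →ₗ[R] (P × (S →₀ R)) ⧸ N' := N'.mkQ ∘ₗ LinearMap.inr R P (S →₀ R)
  refine ⟨_, inferInstance, inferInstance, ‹_›, f', N'.liftQ _ hN, LinearMap.ext fun p => by simp [f'], ?_⟩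
  have h1 : f' ∘ₗ π = (j ∘ₗ r) ∘ₗ s := LinearMap.pi_ext' fun i => LinearMap.ext_ring (by
    show N'.mkQ (π (Pi.single i 1), 0) = N'.mkQ (0, r (s (Pi.single i 1)))
    rw [Submodule.mkQ_apply, Submodule.mkQ_apply, Submodule.Quotient.eq]
    refine Submodule.mem_sup_left (Submodule.subset_span ⟨i, ?_⟩)
    simp)
  rw [← LinearMap.comp_apply, ← LinearMap.rTensor_comp, h1, LinearMap.rTensor_comp, LinearMap.comp_apply, ← hw,
    map_sum, map_sum, ← Finset.sum_coe_sort W]
  refine Finset.sum_eq_zero fun p _ => ?_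
  simp only [LinearMap.rTensor_tmul, Submodule.subtype_apply]
  rw [show (j ∘ₗ r) (p.1.1 : M →₀ R) = 0 from ?_, zero_tmul]
  exact (Submodule.Quotient.mk_eq_zero _).2 (Submodule.mem_sup_right (Submodule.subset_span ⟨p, rfl⟩))

/-- Representatives of finitely presented modules. -/
abbrev RepIdx (R : Type u) [CommRing R] : Type u := Σ n : ℕ, Finset (Fin n → R)

/-- Representatives of finitely presented modules. -/
abbrev Rep (i : RepIdx R) : Type u := (Fin i.1 → R) ⧸ Submodule.span R (i.2 : Set (Fin i.1 → R))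

theorem exists_rep (Q : Type u) [AddCommGroup Q] [Module R Q] [Module.FinitePresentation R Q] :
    ∃ i : RepIdx R, Nonempty (Q ≃ₗ[R] Rep i) := by
  obtain ⟨n, K, e, ⟨s, hs⟩⟩ := Module.FinitePresentation.exists_fin R Q
  exact ⟨⟨n, s⟩, ⟨e.trans (Submodule.quotEquivOfEq K _ hs.symm)⟩⟩

/-- Over a Mittag-Leffler module every map from a finitely presented module is dominated by
one of its factorizations through a finitely presented module. -/
theorem exists_dominating (hM : CAlg.IsMittagLeffler R M) [Module.FinitePresentation R P] (f : P →ₗ[R] M) :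
    ∃ (Q : Type u) (_ : AddCommGroup Q) (_ : Module R Q) (_ : Module.FinitePresentation R Q)
      (g : P →ₗ[R] Q) (h : Q →ₗ[R] M), f = h ∘ₗ g ∧
        ∀ (T : Type u) [AddCommGroup T] [Module R T], LinearMap.ker (f.rTensor T) = LinearMap.ker (g.rTensor T) := by
  let ι := Σ i : RepIdx R, LinearMap.ker (f.rTensor (Rep i))
  let T : ι → Type u := fun a => Rep a.1
  obtain ⟨X, hX⟩ := (cmp_bijective T P).2 fun a => a.2.1
  have h0 : f.rTensor _ X = 0 := hM ι T (by
    rw [map_zero]
    funext a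
    exact (cmp_rTensor T f X a).trans (by rw [hX]; exact a.2.2))
  obtain ⟨Q, _, _, hQ, g, h, hf, hg⟩ := exists_factor_kill f X h0
  refine ⟨Q, inferInstance, inferInstance, hQ, g, h, hf, fun T' _ _ => le_antisymm ?_ (hf ▸ ker_comp_ge g h)⟩
  refine dom_of_fp (f := f) (g := g) (fun U _ _ hU z hz => ?_) T'
  obtain ⟨i, ⟨e⟩⟩ := exists_rep (R := R) U
  have hz' : e.toLinearMap.lTensor P z ∈ LinearMap.ker (f.rTensor (Rep i)) := by
    rw [LinearMap.mem_ker, ← LinearMap.comp_apply, LinearMap.rTensor_comp_lTensor,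
      ← LinearMap.lTensor_comp_rTensor, LinearMap.comp_apply, LinearMap.mem_ker.1 hz, map_zero]
  have h1 : g.rTensor (Rep i) (e.toLinearMap.lTensor P z) = 0 := by
    have := cmp_rTensor T g X ⟨i, _, hz'⟩
    rw [hg, map_zero, hX] at this
    exact this.symm
  apply (LinearEquiv.lTensor Q e).injective
  rw [map_zero]
  show e.toLinearMap.lTensor Q (g.rTensor U z) = 0
  rw [← LinearMap.comp_apply, LinearMap.lTensor_comp_rTensor, ← LinearMap.rTensor_comp_lTensor,
    LinearMap.comp_apply, h1]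

/-- The free criterion. -/
theorem isMittagLeffler_of_free
    (h : ∀ (n : ℕ) (f : (Fin n → R) →ₗ[R] M),
      ∃ (Q : Type u) (_ : AddCommGroup Q) (_ : Module R Q) (_ : Module.FinitePresentation R Q)
        (g : (Fin n → R) →ₗ[R] Q),
        ∀ (T : Type u) [AddCommGroup T] [Module R T], LinearMap.ker (f.rTensor T) = LinearMap.ker (g.rTensor T)) :
    CAlg.IsMittagLeffler R M := by
  classical
  intro ι T _ _
  rw [injective_iff_map_eq_zero]
  intro z hz
  obtain ⟨S, rfl⟩ := TensorProduct.exists_finset z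
  let e := Fintype.equivFin S
  let f : (Fin (Fintype.card S) → R) →ₗ[R] M := Fintype.linearCombination R fun k => (e.symm k).1.1
  let x : (Fin (Fintype.card S) → R) ⊗[R] (∀ i, T i) := ∑ k, Pi.single k 1 ⊗ₜ[R] (e.symm k).1.2
  have hx : f.rTensor _ x = ∑ p ∈ S, p.1 ⊗ₜ[R] p.2 := by
    rw [map_sum, ← Finset.sum_coe_sort S]
    refine Fintype.sum_equiv e.symm _ _ fun k => ?_
    simp [f, Fintype.linearCombination_apply_single]
  obtain ⟨Q, _, _, hQ, g, hg⟩ := h _ f
  rw [← hx] at hz ⊢
  have h1 : g.rTensor _ x = 0 := (cmp_bijective T Q).1 (by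
    rw [map_zero]
    funext i
    refine (cmp_rTensor T g x i).trans (LinearMap.mem_ker.1 ?_)
    rw [← hg (T i), LinearMap.mem_ker]
    exact (cmp_rTensor T f x i).symm.trans (congrFun hz i))
  exact (hg (∀ i, T i)).ge h1

end GrothLib.ML
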