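import Groth.Agent.Lib.ML.Ops

/-!
# Flat Mittag-Leffler modules
-/

universe u

open TensorProduct

namespace GrothLib.ML

variable {R : Type u} [CommRing R]
variable {M : Type u} [AddCommGroup M] [Module R M]

theorem exists_smallest [Module.Flat R M] (hM : CAlg.IsMittagLeffler R M)
    (F : Type u) [AddCommGroup F] [Module R F] (x : F ⊗[R] M) :
    ∃ F' : Submodule R F, F'.FG ∧ x ∈ LinearMap.range (F'.subtype.rTensor M) ∧
      ∀ F'' : Submodule R F, x ∈ LinearMap.range (F''.subtype.rTensor M) → F' ≤ F'' := by
  classical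
  let ι := {F'' : Submodule R F // x ∈ LinearMap.range (F''.subtype.rTensor M)}
  let φ : F →ₗ[R] ∀ a : ι, F ⧸ a.1 := LinearMap.pi fun a => a.1.mkQ
  let y : M ⊗[R] F := TensorProduct.comm R F M x
  have key : ∀ (z : M ⊗[R] F) (a : ι), cmp (fun a : ι => F ⧸ a.1) M (φ.lTensor M z) a = a.1.mkQ.lTensor M z := by
    intro z a
    induction z with
    | zero => simp
    | add p q hp hq => simp only [map_add, Pi.add_apply, hp, hq]
    | tmul m v => rfl
  have h0 : φ.lTensor M y = 0 := hM ι _ (by
    rw [map_zero]
    funext a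
    refine (key y a).trans ?_
    obtain ⟨u, hu⟩ := a.2
    have hy : y = a.1.subtype.lTensor M (TensorProduct.comm R _ M u) := by
      refine Eq.trans (congrArg (TensorProduct.comm R F M) hu).symm ?_
      clear hu
      induction u with
      | zero => simp
      | add p q hp hq => simp only [map_add, hp, hq]
      | tmul p q => simp
    rw [hy, ← LinearMap.comp_apply, ← LinearMap.lTensor_comp,
      (LinearMap.exact_subtype_mkQ a.1).linearMap_comp_eq_zero, LinearMap.lTensor_zero]
    rfl)
  obtain ⟨w, hw⟩ := (Module.Flat.lTensor_exact M (LinearMap.exact_subtype_ker_map φ) y).1 h0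
  obtain ⟨S, rfl⟩ := TensorProduct.exists_finset w
  let G : Submodule R F := Submodule.span R ((fun p : M × LinearMap.ker φ => (p.2 : F)) '' (S : Set _))
  have hG : G ≤ LinearMap.ker φ := Submodule.span_le.2 (by rintro _ ⟨p, _, rfl⟩; exact p.2.2)
  have hxG : x ∈ LinearMap.range (G.subtype.rTensor M) := by
    refine ⟨∑ p : S, ⟨(p.1.2 : F), Submodule.subset_span ⟨p.1, p.2, rfl⟩⟩ ⊗ₜ[R] p.1.1, ?_⟩
    apply (TensorProduct.comm R F M).injective
    show _ = y
    rw [← hw, map_sum, map_sum, map_sum, ← Finset.sum_coe_sort S]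
    exact Finset.sum_congr rfl fun p _ => by simp
  have hmin : ∀ F'' : Submodule R F, x ∈ LinearMap.range (F''.subtype.rTensor M) → LinearMap.ker φ ≤ F'' := by
    intro F'' h v hv
    exact (Submodule.Quotient.mk_eq_zero _).1 (congrFun (LinearMap.mem_ker.1 hv) (⟨F'', h⟩ : ι))
  exact ⟨G, Submodule.fg_span (S.finite_toSet.image _), hxG, fun F'' h => hG.trans (hmin F'' h)⟩

theorem lc_zero {n : ℕ} {T : Type u} [AddCommGroup T] [Module R T] :
    Fintype.linearCombination R (0 : Fin n → T) = 0 := by
  ext; simp [Fintype.linearCombination_apply]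

theorem lc_add {n : ℕ} {T : Type u} [AddCommGroup T] [Module R T] (a b : Fin n → T) :
    Fintype.linearCombination R (a + b) = Fintype.linearCombination R a + Fintype.linearCombination R b := by
  ext; simp [Fintype.linearCombination_apply, Finset.sum_add_distrib]

theorem ml_of_smallest [Module.Flat R M]
    (h : ∀ (n : ℕ) (x : (Fin n → R) ⊗[R] M), ∃ F' : Submodule R (Fin n → R),
      x ∈ LinearMap.range (F'.subtype.rTensor M) ∧
      ∀ F'' : Submodule R (Fin n → R), x ∈ LinearMap.range (F''.subtype.rTensor M) → F' ≤ F'') :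
    CAlg.IsMittagLeffler R M := by
  classical
  refine isMittagLeffler_of_free fun n f => ?_
  let x : (Fin n → R) ⊗[R] M := ∑ i, Pi.single i 1 ⊗ₜ[R] f (Pi.single i 1)
  obtain ⟨F', ⟨u, hu⟩, hmin⟩ := h n x
  obtain ⟨S, rfl⟩ := TensorProduct.exists_finset u
  let g : (Fin n → R) →ₗ[R] (S → R) := LinearMap.pi fun p => Fintype.linearCombination R (p.1.1 : Fin n → R)
  let c : (S → R) →ₗ[R] M := Fintype.linearCombination R fun p => p.1.2
  have hfg : f = c ∘ₗ g := by
    refine LinearMap.pi_ext' fun i => LinearMap.ext_ring ?_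
    have h1 := congrArg (fun z => TensorProduct.piScalarRight R R M (Fin n) (TensorProduct.comm R _ M z) i) hu
    rw [map_sum, ← Finset.sum_coe_sort S] at h1
    simp only [x, map_sum, Finset.sum_apply, LinearMap.rTensor_tmul, TensorProduct.comm_tmul, Submodule.subtype_apply,
      TensorProduct.piScalarRight_apply, TensorProduct.piScalarRightHom_tmul, Pi.single_apply, ite_smul, one_smul,
      zero_smul, Finset.sum_ite_eq, Finset.mem_univ, if_true] at h1
    simp only [LinearMap.comp_apply, LinearMap.single_apply, c, g, LinearMap.pi_apply,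
      Fintype.linearCombination_apply, Fintype.linearCombination_apply_single, one_smul]
    rw [← h1]
    simp [Fintype.linearCombination_apply, Pi.single_apply]
  refine ⟨S → R, inferInstance, inferInstance, inferInstance, g, fun T _ _ =>
    le_antisymm (fun z hz => ?_) (hfg ▸ ker_comp_ge g c)⟩
  let e : ∀ k : Type u, [Fintype k] → [DecidableEq k] → (k → R) ⊗[R] T ≃ₗ[R] (k → T) :=
    fun k _ _ => TensorProduct.comm R _ _ ≪≫ₗ TensorProduct.piScalarRight R R T k
  let zc : Fin n → T := (TensorProduct.comm R _ _ ≪≫ₗ TensorProduct.piScalarRight R R T (Fin n)) z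
  let φ : (Fin n → R) →ₗ[R] T := Fintype.linearCombination R zc
  have key : ∀ z' : (Fin n → R) ⊗[R] T,
      (Fintype.linearCombination R ((TensorProduct.comm R _ _ ≪≫ₗ TensorProduct.piScalarRight R R T (Fin n)) z')).rTensor M x =
        TensorProduct.comm R M T (f.rTensor T z') := by
    intro z'
    induction z' with
    | zero => simp [lc_zero]
    | add a b ha hb => simp only [map_add, lc_add, LinearMap.rTensor_add, LinearMap.add_apply, ha, hb]
    | tmul v t =>
      simp only [x, map_sum, LinearMap.rTensor_tmul, TensorProduct.comm_tmul, Fintype.linearCombination_apply_single,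
        LinearEquiv.trans_apply, TensorProduct.piScalarRight_apply, TensorProduct.piScalarRightHom_tmul, one_smul]
      conv_rhs => rw [pi_eq_sum_univ' v]
      rw [map_sum, tmul_sum]
      exact Finset.sum_congr rfl fun i _ => by rw [map_smul, ← smul_tmul]
  have h2 : φ.rTensor M x = 0 := by
    rw [key z, LinearMap.mem_ker.1 hz, map_zero]
  have h3 : x ∈ LinearMap.range ((LinearMap.ker φ).subtype.rTensor M) :=
    (Module.Flat.rTensor_exact M (LinearMap.exact_subtype_ker_map φ) x).1 h2
  have h4 : ∀ p : S, φ (p.1.1 : Fin n → R) = 0 := fun p => hmin _ h3 p.1.1.2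
  apply (e S).injective
  rw [map_zero]
  funext p
  have key2 : ∀ z' : (Fin n → R) ⊗[R] T, e S (g.rTensor T z') p =
      Fintype.linearCombination R ((TensorProduct.comm R _ _ ≪≫ₗ TensorProduct.piScalarRight R R T (Fin n)) z') (p.1.1 : Fin n → R) := by
    intro z'
    induction z' with
    | zero => simp [lc_zero]
    | add a b ha hb => simp only [map_add, lc_add, Pi.add_apply, LinearMap.add_apply, ha, hb]
    | tmul v t =>
      simp [e, g, Fintype.linearCombination_apply, Finset.sum_smul, smul_smul, mul_comm]
  exact (key2 z).trans (h4 p)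

theorem flat_pi_of_coherent (hR : ∀ I : Ideal R, I.FG → Module.FinitePresentation R I) (A : Type u) :
    Module.Flat R (A → R) := by
  rw [Module.Flat.iff_rTensor_injective]
  intro I hI
  haveI := hR I hI
  rw [injective_iff_map_eq_zero]
  intro z hz
  refine (cmp_bijective (fun _ : A => R) I).1 ?_
  rw [map_zero]
  funext a
  apply Module.Flat.rTensor_preserves_injective_linearMap (M := R) I.subtype (Submodule.injective_subtype _)
  rw [Pi.zero_apply, map_zero]
  exact ((cmp_rTensor (fun _ : A => R) I.subtype z a).symm).trans (by rw [hz, map_zero]; rfl)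

theorem coherent_of_flat_pi (h : ∀ A : Type u, Module.Flat R (A → R)) (I : Ideal R) (hI : I.FG) :
    Module.FinitePresentation R I := by
  haveI : Module.Finite R I := .of_fg hI
  refine finitePresentation_of_cmp_bijective I fun κ => ⟨?_, cmp_surjective _ I⟩
  rw [injective_iff_map_eq_zero]
  intro z hz
  haveI := h κ
  apply Module.Flat.rTensor_preserves_injective_linearMap (M := κ → R) I.subtype (Submodule.injective_subtype _)
  rw [map_zero]
  refine (cmp_bijective (fun _ : κ => R) R).1 ?_
  rw [map_zero]
  funext a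
  exact (cmp_rTensor (fun _ : κ => R) I.subtype z a).trans (by rw [hz]; simp)

theorem ml_pi_of_noetherian [IsNoetherianRing R] (A : Type u) :
    Module.Flat R (A → R) ∧ CAlg.IsMittagLeffler R (A → R) := by
  haveI hf : Module.Flat R (A → R) := flat_pi_of_coherent (fun I _ => Module.finitePresentation_of_finite R I) A
  refine ⟨hf, ml_of_smallest fun n x => ?_⟩
  let c : A → (Fin n → R) := fun a => TensorProduct.rid R _ (cmp (fun _ : A => R) (Fin n → R) x a)
  have hrid : ∀ {P : Submodule R (Fin n → R)} (w : P ⊗[R] R),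
      TensorProduct.rid R (Fin n → R) (P.subtype.rTensor R w) = P.subtype (TensorProduct.rid R P w) := by
    intro P w
    induction w with
    | zero => simp
    | add a b ha hb => simp only [map_add, ha, hb]
    | tmul p r => simp
  refine ⟨Submodule.span R (Set.range c), ?_, fun F'' h => Submodule.span_le.2 ?_⟩
  · haveI : Module.FinitePresentation R (Submodule.span R (Set.range c)) := Module.finitePresentation_of_finite R _
    obtain ⟨u, hu⟩ := cmp_surjective (fun _ : A => R) (Submodule.span R (Set.range c)) fun a =>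
      (⟨c a, Submodule.subset_span (Set.mem_range_self a)⟩ : Submodule.span R (Set.range c)) ⊗ₜ[R] (1 : R)
    refine ⟨u, (cmp_bijective_free (fun _ : A => R) n).1 (funext fun a => ?_)⟩
    rw [cmp_rTensor, hu]
    apply (TensorProduct.rid R _).injective
    rw [hrid]
    simp [c]
  · rintro _ ⟨a, rfl⟩
    obtain ⟨u, rfl⟩ := h
    show TensorProduct.rid R _ (cmp (fun _ : A => R) (Fin n → R) _ a) ∈ F''
    rw [cmp_rTensor, hrid]
    exact Subtype.coe_prop _

end GrothLib.ML
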