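import Groth.Agent.Lib.ML.Countable

/-!
# Direct sums of countably generated modules
-/

universe u v

open TensorProduct
open scoped Classical

namespace GrothLib.ML

variable {R : Type u} [CommRing R] {M : Type u} [AddCommGroup M] [Module R M]

/-- Countably generated submodules. -/
def CG (L : Submodule R M) : Prop := ∃ s : Set M, s.Countable ∧ Submodule.span R s = L

theorem cg_map {M' : Type u} [AddCommGroup M'] [Module R M'] (f : M →ₗ[R] M') {L : Submodule R M} (h : CG L) :
    CG (L.map f) := by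
  obtain ⟨s, hs, rfl⟩ := h
  exact ⟨f '' s, hs.image f, (Submodule.map_span f s).symm⟩

theorem cg_biSup {ι : Type*} {J : Set ι} (hJ : J.Countable) (N : ι → Submodule R M) (h : ∀ i, CG (N i)) :
    CG (⨆ i ∈ J, N i) := by
  choose s hs hspan using h
  refine ⟨⋃ i ∈ J, s i, hJ.biUnion fun i _ => hs i, ?_⟩
  simp only [Submodule.span_iUnion, hspan]

theorem cg_iff (L : Submodule R M) : CG L ↔ CAlg.IsCountablyGenerated R L := by
  constructor
  · rintro ⟨s, hs, rfl⟩
    refine ⟨Subtype.val ⁻¹' s, hs.preimage Subtype.val_injective, ?_⟩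
    exact Submodule.span_span_coe_preimage
  · rintro ⟨s, hs, h⟩
    refine ⟨Subtype.val '' s, hs.image _, ?_⟩
    have := congrArg (Submodule.map L.subtype) h
    rwa [Submodule.map_span, Submodule.map_subtype_top] at this

theorem isCountablyGenerated_of_equiv {M' : Type u} [AddCommGroup M'] [Module R M'] (e : M ≃ₗ[R] M')
    (h : CAlg.IsCountablyGenerated R M) : CAlg.IsCountablyGenerated R M' := by
  obtain ⟨s, hs, hspan⟩ := h
  refine ⟨e '' s, hs.image e, ?_⟩
  have := congrArg (Submodule.map e.toLinearMap) hspan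
  rwa [Submodule.map_span, Submodule.map_top, LinearEquiv.range] at this

theorem sSupIndep_insert {s : Set (Submodule R M)} (hs : sSupIndep s) {L : Submodule R M}
    (h : Disjoint L (sSup s)) : sSupIndep (insert L s) := by
  intro a ha
  rcases Set.mem_insert_iff.1 ha with rfl | ha
  · refine h.mono_right (sSup_le_sSup ?_)
    rintro b ⟨hb, hne⟩
    exact (Set.mem_insert_iff.1 hb).resolve_left fun e => hne (Set.mem_singleton_iff.2 e)
  · have h1 : Disjoint a (sSup (s \ {a})) := hs ha
    have h2 : Disjoint (a ⊔ sSup (s \ {a})) L :=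
      (h.mono_right (sup_le (le_sSup ha) (sSup_le_sSup Set.sdiff_subset))).symm
    have h3 : Disjoint a (sSup (s \ {a}) ⊔ L) := h1.disjoint_sup_right_of_disjoint_sup_left h2
    refine h3.mono_right (sSup_le ?_)
    rintro b ⟨hb, hne⟩
    rcases Set.mem_insert_iff.1 hb with rfl | hb
    · exact le_sup_right
    · exact le_sup_of_le_left (le_sSup ⟨hb, hne⟩)

/-- Kaplansky's theorem on idempotent endomorphisms. -/
theorem exists_indep_cg {ι : Type u} (N : ι → Submodule R M) (hN : DirectSum.IsInternal N) (hc : ∀ i, CG (N i))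
    (E : M →ₗ[R] M) (hE : ∀ x, E (E x) = E x) :
    ∃ 𝓛 : Set (Submodule R M), sSupIndep 𝓛 ∧ sSup 𝓛 = LinearMap.range E ∧ ∀ L ∈ 𝓛, CG L := by
  classical
  let NJ : Set ι → Submodule R M := fun J => ⨆ i ∈ J, N i
  let Valid : Set (Set ι × Set (Submodule R M)) := {p | (NJ p.1).map E ≤ NJ p.1 ∧
    sSup p.2 = (NJ p.1).map E ∧ sSupIndep p.2 ∧ ∀ L ∈ p.2, CG L}
  obtain ⟨⟨J, 𝓛⟩, ⟨hcompat, hsup, hind, hcg⟩, hmax⟩ := zorn_le₀ Valid fun c hc hchain => by
    have hJU : NJ (⋃ p ∈ c, p.1) = ⨆ p ∈ c, NJ p.1 := by simp only [NJ, iSup_iUnion]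
    refine ⟨(⋃ p ∈ c, p.1, ⋃₀ (Prod.snd '' c)), ⟨?_, ?_, ?_, ?_⟩, fun z hz =>
      ⟨Set.subset_biUnion_of_mem (u := fun p : Set ι × Set (Submodule R M) => p.1) hz,
        Set.subset_sUnion_of_mem ⟨z, hz, rfl⟩⟩⟩
    · simp only [hJU, Submodule.map_iSup]
      exact iSup₂_mono fun p hp => (hc hp).1
    · simp only [hJU, Submodule.map_iSup, sSup_sUnion, iSup_image]
      exact iSup_congr fun p => iSup_congr fun hp => (hc hp).2.1
    · refine iSupIndep_sUnion_of_directed ?_ (by rintro a ⟨p, hp, rfl⟩; exact (hc hp).2.2.1)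
      rintro a ⟨p, hp, rfl⟩ b ⟨q, hq, rfl⟩
      rcases hchain.total hp hq with h | h
      · exact ⟨q.2, ⟨q, hq, rfl⟩, h.2, subset_rfl⟩
      · exact ⟨p.2, ⟨p, hp, rfl⟩, subset_rfl, h.2⟩
    · rintro L ⟨_, ⟨p, hp, rfl⟩, hL⟩
      exact (hc hp).2.2.2 L hL
  have htopN : ⨆ i, N i = ⊤ := hN.submodule_iSup_eq_top
  suffices hJ : J = Set.univ by
    refine ⟨𝓛, hind, ?_, hcg⟩
    rw [hsup, show NJ J = ⊤ by simp only [NJ, hJ, Set.mem_univ, iSup_pos, htopN], Submodule.map_top]
  by_contra hJne
  obtain ⟨i₀, hi₀⟩ := (Set.ne_univ_iff_exists_notMem J).1 hJne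
  -- closure
  choose gens hgens hspan using hc
  have hfin : ∀ x : M, ∃ F : Finset ι, x ∈ ⨆ i ∈ F, N i := fun x =>
    Submodule.mem_iSup_iff_exists_finset.1 (htopN ▸ Submodule.mem_top)
  choose F hF using hfin
  let T : ι → Set ι := fun j => ⋃ g ∈ gens j, (F (E g) : Set ι)
  have hT : ∀ j, (T j).Countable := fun j => (hgens j).biUnion fun g _ => (F (E g)).countable_toSet
  let A : ℕ → Set ι := fun n => Nat.rec (motive := fun _ => Set ι) {i₀} (fun _ s => ⋃ j ∈ s, T j) n
  let J₀ : Set ι := ⋃ n, A n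
  have hJ₀ : J₀.Countable := Set.countable_iUnion fun n => by
    induction n with
    | zero => exact Set.countable_singleton _
    | succ n ih => exact ih.biUnion fun j _ => hT j
  have hclosed : (NJ J₀).map E ≤ NJ J₀ := by
    simp only [NJ, Submodule.map_iSup]
    refine iSup₂_le fun j hj => ?_
    obtain ⟨n, hn⟩ := Set.mem_iUnion.1 hj
    rw [← hspan j, Submodule.map_span, Submodule.span_le]
    rintro _ ⟨g, hg, rfl⟩
    refine (iSup₂_le fun i hi => ?_ : (⨆ i ∈ F (E g), N i) ≤ ⨆ i ∈ J₀, N i) (hF (E g))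
    exact le_iSup₂_of_le i (Set.mem_iUnion.2 ⟨n + 1, Set.mem_biUnion hn (Set.mem_biUnion hg hi)⟩) le_rfl
  -- the projection
  have hcompl : IsCompl (NJ J) (NJ Jᶜ) := by
    refine ⟨hN.submodule_iSupIndep.disjoint_biSup_biSup disjoint_compl_right, codisjoint_iff.2 (eq_top_iff.2 ?_)⟩
    rw [← htopN]
    refine iSup_le fun i => ?_
    by_cases hi : i ∈ J
    · exact le_sup_of_le_left (le_iSup₂_of_le i hi le_rfl)
    · exact le_sup_of_le_right (le_iSup₂_of_le i hi le_rfl)
  let ρ : M →ₗ[R] M := E ∘ₗ (NJ J).subtype ∘ₗ (NJ J).projectionOnto _ hcompl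
  have hρ : ∀ x ∈ (NJ J).map E, ρ x = x := by
    rintro _ ⟨y, hy, rfl⟩
    have h1 : E y ∈ NJ J := hcompat ⟨y, hy, rfl⟩
    show E ((NJ J).projectionOnto _ hcompl (((⟨E y, h1⟩ : NJ J) : M))) = E y
    rw [Submodule.projectionOnto_apply_left]
    exact hE y
  have hρr : ∀ x, ρ x ∈ (NJ J).map E := fun x => ⟨_, Subtype.coe_prop _, rfl⟩
  let L : Submodule R M := ((NJ J₀).map E).map (LinearMap.id - ρ)
  have hunion : (NJ (J ∪ J₀)).map E = (NJ J).map E ⊔ L := by
    rw [show NJ (J ∪ J₀) = NJ J ⊔ NJ J₀ from iSup_union, Submodule.map_sup]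
    refine le_antisymm (sup_le le_sup_left fun x hx => ?_) (sup_le le_sup_left ?_)
    · rw [show x = ρ x + (LinearMap.id - ρ : M →ₗ[R] M) x by simp]
      exact Submodule.add_mem_sup (hρr x) ⟨x, hx, rfl⟩
    · rintro _ ⟨x, hx, rfl⟩
      exact Submodule.sub_mem _ (Submodule.mem_sup_right hx) (Submodule.mem_sup_left (hρr x))
  have hdisj : Disjoint L (sSup 𝓛) := by
    rw [hsup, Submodule.disjoint_def]
    rintro _ ⟨x, hx, rfl⟩ hy
    rw [← hρ _ hy]
    simp [hρ _ (hρr x)]
  have hnew : ((J ∪ J₀, insert L 𝓛) : Set ι × Set (Submodule R M)) ∈ Valid := by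
    refine ⟨?_, ?_, sSupIndep_insert hind hdisj, ?_⟩
    · show (NJ (J ∪ J₀)).map E ≤ NJ (J ∪ J₀)
      rw [show NJ (J ∪ J₀) = NJ J ⊔ NJ J₀ from iSup_union, Submodule.map_sup]
      exact sup_le_sup hcompat hclosed
    · show sSup (insert L 𝓛) = _
      rw [sSup_insert, hsup, hunion, sup_comm]
    · intro L' hL'
      rcases Set.mem_insert_iff.1 hL' with rfl | hL'
      · exact cg_map _ (cg_map _ (cg_biSup hJ₀ N fun i => ⟨gens i, hgens i, hspan i⟩))
      · exact hcg L' hL'
  exact hi₀ ((hmax hnew ⟨Set.subset_union_left, Set.subset_insert _ _⟩).1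
    (Or.inr (Set.mem_iUnion.2 ⟨0, Set.mem_singleton i₀⟩)))

/-- Kaplansky's theorem. -/
theorem kaplansky {ι : Type u} (N : ι → Submodule R M) (hN : DirectSum.IsInternal N) (hc : ∀ i, CG (N i))
    (P Q : Submodule R M) (hPQ : IsCompl P Q) :
    ∃ (κ : Type u) (L : κ → Submodule R P), DirectSum.IsInternal L ∧ ∀ k, CAlg.IsCountablyGenerated R (L k) := by
  classical
  let E : M →ₗ[R] M := P.subtype ∘ₗ P.projectionOnto Q hPQ
  have hE : ∀ x, E (E x) = E x := fun x => by
    show ((P.projectionOnto Q hPQ ((P.projectionOnto Q hPQ x : P) : M) : P) : M) = _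
    rw [Submodule.projectionOnto_apply_left]
    rfl
  have hr : LinearMap.range E = P := by
    refine le_antisymm ?_ fun x hx => ⟨x, ?_⟩
    · rintro _ ⟨x, rfl⟩
      exact Subtype.coe_prop _
    · show ((P.projectionOnto Q hPQ ((⟨x, hx⟩ : P) : M) : P) : M) = x
      rw [Submodule.projectionOnto_apply_left]
  obtain ⟨𝓛, hind, hsup, hcg⟩ := exists_indep_cg N hN hc E hE
  rw [hr] at hsup
  have hle : ∀ L : 𝓛, (L : Submodule R M) ≤ P := fun L => (le_sSup L.2).trans hsup.le
  refine ⟨𝓛, fun L => (L : Submodule R M).comap P.subtype, ?_, fun L => ?_⟩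
  · have key : ∀ L : 𝓛, ((L : Submodule R M).comap P.subtype).map P.subtype = (L : Submodule R M) := fun L => by
      rw [Submodule.map_comap_subtype, inf_eq_right.2 (hle L)]
    letI : DecidableEq 𝓛 := fun a b => Classical.propDecidable (a = b)
    refine DirectSum.isInternal_submodule_of_iSupIndep_of_iSup_eq_top ?_ ?_
    · rw [iSupIndep_def]
      intro L
      rw [Submodule.disjoint_def]
      intro x hx hx'
      have h1 : (x : M) ∈ ⨆ (j : 𝓛) (_ : j ≠ L), (j : Submodule R M) := by
        have h3 := Submodule.mem_map_of_mem (f := P.subtype) hx'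
        simp only [Submodule.map_iSup, key] at h3
        exact h3
      have h2 : (⨆ (j : 𝓛) (_ : j ≠ L), (j : Submodule R M)) ≤ sSup (𝓛 \ {(L : Submodule R M)}) :=
        iSup₂_le fun j hj => le_sSup ⟨j.2, fun e => hj (Subtype.ext e)⟩
      exact Subtype.ext (Submodule.disjoint_def.1 (hind L.2) _ hx (h2 h1))
    · apply Submodule.map_injective_of_injective P.injective_subtype
      rw [Submodule.map_iSup, Submodule.map_top, Submodule.range_subtype]
      simp only [key]
      rw [← sSup_eq_iSup', hsup]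
  · obtain ⟨s, hs, hspan⟩ := hcg L L.2
    refine (cg_iff _).1 ⟨Subtype.val ⁻¹' s, hs.preimage Subtype.val_injective, ?_⟩
    apply Submodule.map_injective_of_injective P.injective_subtype
    rw [Submodule.map_span, Submodule.map_comap_subtype, inf_eq_right.2 (hle L)]
    have hsub : s ⊆ P := fun x hx => hle L (hspan ▸ Submodule.subset_span hx)
    rw [show P.subtype '' (Subtype.val ⁻¹' s) = s from (Subtype.image_preimage_coe _ s).trans
      (Set.inter_eq_right.2 hsub), hspan]

theorem projective_iff_flat_ml :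
    Module.Projective R M ↔ (Module.Flat R M ∧ CAlg.IsMittagLeffler R M ∧
      ∃ (ι : Type u) (N : ι → Submodule R M), DirectSum.IsInternal N ∧
        ∀ i, CAlg.IsCountablyGenerated R (N i)) := by
  classical
  constructor
  · intro hM
    refine ⟨inferInstance, ml_of_projective M, ?_⟩
    obtain ⟨s, hs⟩ := Module.projective_def'.1 hM
    let π : (M →₀ R) →ₗ[R] M := Finsupp.linearCombination R id
    have hinj : Function.Injective s := fun a b h => by
      simpa using (LinearMap.congr_fun hs a).symm.trans ((congrArg π h).trans (LinearMap.congr_fun hs b))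
    have hcompl : IsCompl (LinearMap.range s) (LinearMap.ker π) := by
      refine ⟨Submodule.disjoint_def.2 ?_, codisjoint_iff.2 (eq_top_iff.2 fun v _ => ?_)⟩
      · rintro _ ⟨a, rfl⟩ ha
        have : a = 0 := (LinearMap.congr_fun hs a).symm.trans ha
        rw [this, map_zero]
      · rw [show v = s (π v) + (v - s (π v)) by abel]
        refine Submodule.add_mem_sup ⟨_, rfl⟩ ?_
        rw [LinearMap.mem_ker, map_sub]
        exact sub_eq_zero.2 (LinearMap.congr_fun hs (π v)).symm
    let B : M → Submodule R (M →₀ R) := fun m => LinearMap.range (Finsupp.lsingle (R := R) m)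
    have hB : DirectSum.IsInternal B := by
      rw [DirectSum.isInternal_submodule_iff_iSupIndep_and_iSup_eq_top]
      refine ⟨?_, Finsupp.iSup_lsingle_range⟩
      intro m
      have := Finsupp.disjoint_lsingle_lsingle (R := R) (M := R) ({m} : Set M) {m}ᶜ disjoint_compl_right
      simpa [B, Set.mem_compl_iff] using this
    obtain ⟨κ, L, hL, hLc⟩ := kaplansky B hB (fun m => ⟨{Finsupp.single m 1}, Set.countable_singleton _, by
      refine le_antisymm (Submodule.span_le.2 ?_) ?_
      · rintro _ rfl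
        exact ⟨1, rfl⟩
      · rintro _ ⟨r, rfl⟩
        exact Submodule.mem_span_singleton.2 ⟨r, by simp⟩⟩) _ _ hcompl
    let e : LinearMap.range s ≃ₗ[R] M := (LinearEquiv.ofInjective s hinj).symm
    refine ⟨κ, fun k => (L k).map e.toLinearMap, ?_, fun k =>
      (cg_iff _).1 (cg_map (M := LinearMap.range s) e.toLinearMap (L := L k) ((cg_iff (M := LinearMap.range s) (L k)).2 (hLc k)))⟩
    refine DirectSum.isInternal_submodule_of_iSupIndep_of_iSup_eq_top
      (hL.submodule_iSupIndep.map_orderIso (Submodule.orderIsoMapComap e)) ?_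
    rw [← Submodule.map_iSup, hL.submodule_iSup_eq_top, Submodule.map_top, LinearEquiv.range]
  · rintro ⟨hflat, hml, ι, N, hN, hc⟩
    let e : DirectSum ι (fun i => N i) ≃ₗ[R] M := LinearEquiv.ofBijective (DirectSum.coeLinearMap N) hN
    have hsum : CAlg.IsMittagLeffler R (DirectSum ι fun i => N i) :=
      ml_of_retract e.toLinearMap e.symm.toLinearMap (LinearMap.ext fun x => e.symm_apply_apply x) hml
    haveI : Module.Flat R (DirectSum ι fun i => N i) := Module.Flat.of_linearEquiv e
    haveI : ∀ i, Module.Projective R (N i) := fun i => by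
      haveI : Module.Flat R (N i) := Module.Flat.of_retract (DirectSum.lof R ι (fun i => N i) i)
        (DirectSum.component R ι (fun i => N i) i) (LinearMap.ext fun x => by simp)
      exact projective_of_countable (ml_of_directSum (fun i => N i) hsum i) (hc i)
    exact Module.Projective.of_equiv e

end GrothLib.ML
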