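import Groth.Agent.Lib.ML.Ops

/-!
# Mittag-Leffler colimits of finitely presented modules
-/

universe u

open TensorProduct

namespace GrothLib.ML

variable {R : Type u} [CommRing R] {ι : Type u} [Preorder ι] [IsDirected ι (· ≤ ·)] [Nonempty ι] [DecidableEq ι]
  {G : ι → Type u} [∀ i, AddCommGroup (G i)] [∀ i, Module R (G i)]
  (f : ∀ i j, i ≤ j → G i →ₗ[R] G j) [DirectedSystem G fun i j h => f i j h]

theorem exists_kill_finset {i : ι} (s : Finset (G i)) (h : ∀ x ∈ s, Module.DirectLimit.of R ι G f i x = 0) :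
    ∃ (j : ι) (hij : i ≤ j), ∀ x ∈ s, f i j hij x = 0 := by
  classical
  induction s using Finset.induction_on with
  | empty => exact ⟨i, le_rfl, by simp⟩
  | insert a s _ ih =>
    obtain ⟨j, hij, hj⟩ := ih fun x hx => h x (Finset.mem_insert_of_mem hx)
    obtain ⟨k, hik, hk⟩ := Module.DirectLimit.of.zero_exact (h a (Finset.mem_insert_self a s))
    obtain ⟨l, hjl, hkl⟩ := exists_ge_ge j k
    refine ⟨l, hij.trans hjl, fun x hx => ?_⟩
    rcases Finset.mem_insert.1 hx with rfl | hx
    · rw [← DirectedSystem.map_map' f hik hkl, hk, map_zero]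
    · rw [← DirectedSystem.map_map' f hij hjl, hj x hx, map_zero]

theorem exists_common {κ : Type*} [Finite κ] (y : κ → Module.DirectLimit G f) :
    ∃ (j : ι) (x : κ → G j), ∀ a, Module.DirectLimit.of R ι G f j (x a) = y a := by
  choose i x hx using fun a => Module.DirectLimit.exists_of (y a)
  obtain ⟨j, hj⟩ := Finite.exists_le i
  exact ⟨j, fun a => f (i a) j (hj a) (x a), fun a => by rw [Module.DirectLimit.of_f, hx]⟩

theorem exists_eq_stage {P : Type u} [AddCommGroup P] [Module R P] [Module.Finite R P] {i : ι} (u v : P →ₗ[R] G i)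
    (h : Module.DirectLimit.of R ι G f i ∘ₗ u = Module.DirectLimit.of R ι G f i ∘ₗ v) :
    ∃ (j : ι) (hij : i ≤ j), f i j hij ∘ₗ u = f i j hij ∘ₗ v := by
  classical
  obtain ⟨s, hs⟩ := (Module.Finite.fg_top : (⊤ : Submodule R P).FG)
  obtain ⟨j, hij, hj⟩ := exists_kill_finset f (s.image fun p => u p - v p) (fun x hx => by
    obtain ⟨p, _, rfl⟩ := Finset.mem_image.1 hx
    have := LinearMap.congr_fun h p
    simp only [LinearMap.comp_apply] at this
    rw [map_sub, this, sub_self])
  refine ⟨j, hij, LinearMap.ext_on hs fun p hp => ?_⟩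
  have := hj _ (Finset.mem_image_of_mem _ (Finset.mem_coe.1 hp))
  rwa [map_sub, sub_eq_zero] at this

theorem exists_lift_stage {Q : Type u} [AddCommGroup Q] [Module R Q] [Module.FinitePresentation R Q]
    (h : Q →ₗ[R] Module.DirectLimit G f) :
    ∃ (j : ι) (h' : Q →ₗ[R] G j), Module.DirectLimit.of R ι G f j ∘ₗ h' = h := by
  classical
  obtain ⟨m, π, hπ⟩ := Module.Finite.exists_fin' R Q
  obtain ⟨rel, hrel⟩ := Module.FinitePresentation.fg_ker π hπ
  obtain ⟨j, x, hx⟩ := exists_common f fun a => h (π (Pi.single a 1))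
  let C : (Fin m → R) →ₗ[R] G j := Fintype.linearCombination R x
  have hC : Module.DirectLimit.of R ι G f j ∘ₗ C = h ∘ₗ π := LinearMap.pi_ext' fun a => LinearMap.ext_ring (by
    simp [C, Fintype.linearCombination_apply_single, hx])
  obtain ⟨k, hjk, hk⟩ := exists_kill_finset f (rel.image fun r => C r) (fun y hy => by
    obtain ⟨r, hr, rfl⟩ := Finset.mem_image.1 hy
    have h1 : π r = 0 := LinearMap.mem_ker.1 (hrel ▸ Submodule.subset_span hr)
    rw [← LinearMap.comp_apply, hC, LinearMap.comp_apply, h1, map_zero])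
  have hle : LinearMap.ker π ≤ LinearMap.ker (f j k hjk ∘ₗ C) := by
    rw [← hrel, Submodule.span_le]
    exact fun r hr => hk _ (Finset.mem_image_of_mem _ hr)
  refine ⟨k, (LinearMap.ker π).liftQ _ hle ∘ₗ (π.quotKerEquivOfSurjective hπ).symm.toLinearMap, LinearMap.ext fun q => ?_⟩
  obtain ⟨v, rfl⟩ := hπ q
  simp only [LinearMap.comp_apply, LinearEquiv.coe_coe]
  rw [← LinearMap.quotKerEquivOfSurjective_apply_mk π hπ v, LinearEquiv.symm_apply_apply,
    LinearMap.quotKerEquivOfSurjective_apply_mk π hπ v]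
  exact Module.DirectLimit.of_f.trans (LinearMap.congr_fun hC v)

theorem ml_directLimit_iff [∀ i, Module.FinitePresentation R (G i)] :
    CAlg.IsMittagLeffler R (Module.DirectLimit G f) ↔
      ∀ i, ∃ (j : ι) (hij : i ≤ j), ∀ (k : ι) (hik : i ≤ k),
        ∃ h : G k →ₗ[R] G j, f i j hij = h ∘ₗ f i k hik := by
  classical
  constructor
  · intro hM i
    obtain ⟨Q, _, _, _, g, h, e, hker⟩ := exists_dominating hM (Module.DirectLimit.of R ι G f i)
    obtain ⟨j₀, h', he⟩ := exists_lift_stage f h
    obtain ⟨j₁, hi₁, hj₁⟩ := exists_ge_ge i j₀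
    have heq : Module.DirectLimit.of R ι G f j₁ ∘ₗ f i j₁ hi₁ =
        Module.DirectLimit.of R ι G f j₁ ∘ₗ (f j₀ j₁ hj₁ ∘ₗ h' ∘ₗ g) := LinearMap.ext fun x => by
      simp only [LinearMap.comp_apply]
      rw [Module.DirectLimit.of_f, Module.DirectLimit.of_f]
      exact (LinearMap.congr_fun e x).trans (LinearMap.congr_fun he (g x)).symm
    obtain ⟨j, hj, hjeq⟩ := exists_eq_stage f _ _ heq
    refine ⟨j, hi₁.trans hj, fun k hik => ?_⟩
    have hfj : f i j (hi₁.trans hj) = (f j₁ j hj ∘ₗ f j₀ j₁ hj₁ ∘ₗ h') ∘ₗ g := by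
      rw [LinearMap.comp_assoc, LinearMap.comp_assoc, ← hjeq]
      exact LinearMap.ext fun x => (DirectedSystem.map_map' f hi₁ hj x).symm
    haveI : Module.FinitePresentation R (G k ⧸ LinearMap.range (f i k hik)) :=
      Module.finitePresentation_of_surjective _ (Submodule.mkQ_surjective _)
        (by rw [Submodule.ker_mkQ, LinearMap.range_eq_map]; exact Module.Finite.fg_top.map _)
    refine factor_of_dom (f i k hik) _ fun T _ _ x hx => ?_
    have h1 : x ∈ LinearMap.ker ((Module.DirectLimit.of R ι G f i).rTensor T) := by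
      rw [show Module.DirectLimit.of R ι G f i = Module.DirectLimit.of R ι G f k ∘ₗ f i k hik from
        LinearMap.ext fun y => Module.DirectLimit.of_f.symm]
      exact ker_comp_ge _ _ hx
    rw [hfj]
    exact ker_comp_ge _ _ ((hker T).le h1)
  · intro h
    refine isMittagLeffler_of_free fun n F => ?_
    obtain ⟨i, F', hF⟩ := exists_lift_stage f F
    obtain ⟨j, hij, hj⟩ := h i
    refine ⟨G j, inferInstance, inferInstance, inferInstance, f i j hij ∘ₗ F', fun T _ _ => le_antisymm ?_ ?_⟩
    · intro x hx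
      rw [← hF, LinearMap.mem_ker, LinearMap.rTensor_comp, LinearMap.comp_apply] at hx
      have h1 := congrArg (TensorProduct.directLimitLeft f T) hx
      rw [TensorProduct.directLimitLeft_rTensor_of, map_zero] at h1
      obtain ⟨k, hik, hk⟩ := Module.DirectLimit.of.zero_exact h1
      obtain ⟨t, ht⟩ := hj k hik
      rw [LinearMap.mem_ker, LinearMap.rTensor_comp, LinearMap.comp_apply, ht, LinearMap.rTensor_comp,
        LinearMap.comp_apply]
      exact (congrArg _ hk).trans (map_zero _)
    · have : F = Module.DirectLimit.of R ι G f j ∘ₗ (f i j hij ∘ₗ F') := by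
        rw [← hF]
        exact LinearMap.ext fun x => Module.DirectLimit.of_f.symm
      conv_rhs => rw [this]
      exact ker_comp_ge _ _

end GrothLib.ML
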